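import Groth.Agent.Lib.ModBlowDesc2.Main

/-!
# The closure of the interior of a modification
-/

set_option autoImplicit false
set_option linter.style.haveILetI false
set_option linter.unusedSectionVars false
set_option backward.isDefEq.respectTransparency false
set_option backward.isDefEq.respectTransparency.types false

universe u

open CategoryTheory CategoryTheory.Limits AlgebraicGeometry TopologicalSpace

noncomputable section

namespace Groth.Agent.ModBlowDesc2

theorem interior_comap {X₁ X₂ : Scheme.{u}} (f : X₁ ⟶ X₂) (K : X₂.IdealSheafData) :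
    ModPair.interior (K.comap f) = f ⁻¹ᵁ ModPair.interior K := by
  ext x
  show x ∉ (K.comap f).support ↔ f x ∉ K.support
  rw [Scheme.IdealSheafData.support_comap]
  rfl

variable {Z S : Scheme.{u}} (f : Z ⟶ S) (J : S.IdealSheafData)

/-- The closure of the interior. -/
abbrev cl : Scheme.{u} := (f ⁻¹ᵁ ModPair.interior J).ι.image

/-- The inclusion of the closure of the interior. -/
abbrev clι : cl f J ⟶ Z := (f ⁻¹ᵁ ModPair.interior J).ι.imageι

/-- The closure of the interior over the base. -/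
abbrev clπ : cl f J ⟶ S := clι f J ≫ f

theorem ker_clι : (clι f J).ker = (f ⁻¹ᵁ ModPair.interior J).ι.ker :=
  Scheme.IdealSheafData.ker_subschemeι _

theorem ker_clι_comp {T : Scheme.{u}} (g : Z ⟶ T) :
    (clι f J ≫ g).ker = ((f ⁻¹ᵁ ModPair.interior J).ι ≫ g).ker := by
  rw [Scheme.Hom.ker_comp, ker_clι, ← Scheme.Hom.ker_comp]

theorem adm (hJ : BlowUp.IsEffCartierIdeal J) [IsProper f] (hiso : IsIso (f ∣_ ModPair.interior J)) :
    BlowUp.IsEffCartierIdeal (J.comap (clπ f J)) ∧ ModPair.IsAdmBlowup (J.comap (clπ f J)) J (clπ f J) := by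
  let W' := f ⁻¹ᵁ ModPair.interior J
  haveI : QuasiCompact W'.ι := EffCartier.quasiCompact_preimage_interior hJ f
  have hsec : IsIso (W'.ι.imageι ∣_ W') := by
    have hr : Set.range W'.ι.toImage ⊆ Set.range (W'.ι.imageι ⁻¹ᵁ W').ι := by
      rintro _ ⟨x, rfl⟩
      rw [Scheme.Opens.range_ι]
      show W'.ι.imageι (W'.ι.toImage x) ∈ W'
      rw [← Scheme.Hom.comp_apply, W'.ι.toImage_imageι]
      exact x.2
    haveI : IsSplitEpi (W'.ι.imageι ∣_ W') := ⟨⟨IsOpenImmersion.lift _ _ hr, by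
      rw [← cancel_mono W'.ι, Category.assoc, morphismRestrict_ι, IsOpenImmersion.lift_fac_assoc,
        W'.ι.toImage_imageι, Category.id_comp]⟩⟩
    exact isIso_of_mono_of_isSplitEpi _
  have hW : IsIso (clπ f J ∣_ ModPair.interior J) := by
    haveI := hiso
    rw [morphismRestrict_comp]
    haveI : IsIso (W'.ι.imageι ∣_ (f ⁻¹ᵁ ModPair.interior J)) := hsec
    infer_instance
  haveI : IsSchemeTheoreticallyDominant (clπ f J ⁻¹ᵁ EffCartier.cmpl J).ι :=
    EffCartier.dominant_preimage_imageι W'.ι W' (fun x => x.2)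
  exact ⟨EffCartier.comap_of_dominant hJ _, rfl, inferInstanceAs (IsProper (W'.ι.imageι ≫ f)), hW⟩

/-- A modification with dense interior is the closure of the interior of any ambient one. -/
theorem exists_iso_cl [IsProper f] (hiso : IsIso (f ∣_ ModPair.interior J)) {Y : Scheme.{u}} (κ : Y ⟶ Z)
    [IsClosedImmersion κ] (hY : BlowUp.IsEffCartierIdeal (J.comap (κ ≫ f)))
    (hs : IsIso ((κ ≫ f) ∣_ ModPair.interior J)) : ∃ e : Y ≅ cl f J, e.hom ≫ clι f J = κ := by
  let P := f ⁻¹ᵁ ModPair.interior J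
  haveI : IsSchemeTheoreticallyDominant (κ ⁻¹ᵁ P).ι := by
    show IsSchemeTheoreticallyDominant ((κ ≫ f) ⁻¹ᵁ ModPair.interior J).ι
    rw [← interior_comap]
    exact EffCartier.dominant_cmpl hY
  haveI := hiso
  haveI : IsIso (κ ∣_ P) := by
    haveI : IsIso ((κ ∣_ P) ≫ (f ∣_ ModPair.interior J)) := by
      rw [← morphismRestrict_comp]
      exact hs
    exact IsIso.of_isIso_comp_right _ (f ∣_ ModPair.interior J)
  have hk : κ.ker = P.ι.ker :=
    calc κ.ker = ((κ ⁻¹ᵁ P).ι ≫ κ).ker := by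
          rw [Scheme.Hom.ker_comp (κ ⁻¹ᵁ P).ι κ, (κ ⁻¹ᵁ P).ι.ker_eq_bot, Scheme.IdealSheafData.map_bot]
      _ = P.ι.ker := by rw [← morphismRestrict_ι, Scheme.Hom.ker_comp_of_isIso]
  have hk' : (clι f J).ker = κ.ker := by rw [hk, ker_clι]
  haveI := IsClosedImmersion.isIso_lift (clι f J) κ hk'
  exact ⟨asIso (IsClosedImmersion.lift (clι f J) κ hk'.le), IsClosedImmersion.lift_fac _ _ _⟩

/-- Functoriality of the closure of the interior. -/
theorem ker_clι_le {Z' S' : Scheme.{u}} (f' : Z' ⟶ S') (J' : S'.IdealSheafData) (g : Z' ⟶ Z) (σ : S' ⟶ S)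
    (w : g ≫ f = f' ≫ σ) (hmin : J' = J.comap σ) : (clι f J).ker ≤ (clι f' J' ≫ g).ker := by
  rw [ker_clι_comp, ker_clι]
  have hr : Set.range ((f' ⁻¹ᵁ ModPair.interior J').ι ≫ g) ⊆ Set.range (f ⁻¹ᵁ ModPair.interior J).ι := by
    rintro _ ⟨x, rfl⟩
    rw [Scheme.Opens.range_ι]
    show f (g x.1) ∈ ModPair.interior J
    rw [← Scheme.Hom.comp_apply, w, Scheme.Hom.comp_apply, ← Scheme.Hom.mem_preimage, ← interior_comap, ← hmin]
    exact x.2
  rw [← IsOpenImmersion.lift_fac (f ⁻¹ᵁ ModPair.interior J).ι _ hr]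
  exact Scheme.Hom.le_ker_comp _ _

/-- Killing a section on an open, computed after a base change. -/
theorem app_eq_zero_iff_restrict {Z' : Scheme.{u}} (g : Z' ⟶ Z) (W : Z.Opens) (W' : Z'.Opens) (hW : W' = g ⁻¹ᵁ W)
    (V : Z.Opens) (b : Γ(Z, V)) :
    (W'.ι ≫ g).app V b = 0 ↔
      g.app (V ⊓ W) (Z.presheaf.map (homOfLE (inf_le_left : V ⊓ W ≤ V)).op b) = 0 := by
  subst hW
  have h1 : g.app (V ⊓ W) (Z.presheaf.map (homOfLE (inf_le_left : V ⊓ W ≤ V)).op b) =
      Z'.presheaf.map ((Opens.map g.base).map (homOfLE (inf_le_left : V ⊓ W ≤ V))).op (g.app V b) := by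
    exact ConcreteCategory.congr_hom (g.naturality (homOfLE (inf_le_left : V ⊓ W ≤ V)).op) b
  rw [h1, Scheme.Hom.comp_app, ConcreteCategory.comp_apply, Scheme.Opens.ι_app]
  have e : (g ⁻¹ᵁ W).ι ''ᵁ ((g ⁻¹ᵁ W).ι ⁻¹ᵁ (g ⁻¹ᵁ V)) = g ⁻¹ᵁ (V ⊓ W) := by
    rw [Scheme.Hom.image_preimage_eq_opensRange_inf, Scheme.Opens.opensRange_ι, inf_comm]
    rfl
  have key : ∀ {A B C : Z'.Opensᵒᵖ} (p : A ⟶ B) (q : B ⟶ C) (r : A ⟶ C) (x : Z'.presheaf.obj A),
      Z'.presheaf.map q (Z'.presheaf.map p x) = Z'.presheaf.map r x := fun p q r x => by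
    rw [Subsingleton.elim r (p ≫ q), Functor.map_comp]
    rfl
  constructor
  · intro h
    have h2 := congrArg (Z'.presheaf.map (homOfLE e.ge).op) h
    rw [map_zero] at h2
    exact (key _ _ _ _).symm.trans h2
  · intro h
    have h2 := congrArg (Z'.presheaf.map (homOfLE e.le).op) h
    rw [map_zero] at h2
    exact (key _ _ _ _).symm.trans h2

end Groth.Agent.ModBlowDesc2
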