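import Groth.Agent.Lib.ModBlowDesc2.System
import Groth.Agent.S2151
import Groth.Agent.S18759
import Groth.Agent.S18745
import Groth.Agent.S18738
import Mathlib.CategoryTheory.Limits.Constructions.Over.Connected

/-!
# Morphisms in the localization of modulus pairs along a limit
-/

set_option autoImplicit false
set_option linter.style.haveILetI false
set_option linter.unusedSectionVars false
set_option maxHeartbeats 1000000
set_option backward.isDefEq.respectTransparency false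
set_option backward.isDefEq.respectTransparency.types false

universe u

open CategoryTheory CategoryTheory.Limits AlgebraicGeometry TopologicalSpace

noncomputable section

namespace Groth.Agent.ModBlowDesc2

/-- An admissible blow-up of the limit is the closure of the interior of a modification of a member. -/
theorem exists_model_adm {I : Type u} [SmallCategory I] [IsCofiltered I] (D : I ⥤ Scheme.{u})
    [∀ {i j : I} (a : i ⟶ j), IsAffineHom (D.map a)]
    [∀ i, CompactSpace (D.obj i)] [∀ i, QuasiSeparatedSpace (D.obj i)]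
    (J : ∀ i, (D.obj i).IdealSheafData) (hJ : ∀ i, BlowUp.IsEffCartierIdeal (J i))
    (hmin : ∀ (i j : I) (t : i ⟶ j), J i = (J j).comap (D.map t))
    (c : Cone D) (hc : IsLimit c) [CompactSpace c.pt] [QuasiSeparatedSpace c.pt]
    (IX : c.pt.IdealSheafData) (hIX : ∀ i, IX = (J i).comap (c.π.app i))
    (hX : BlowUp.IsEffCartierIdeal IX)
    {T : Scheme.{u}} (t : T ⟶ c.pt) (hT : BlowUp.IsEffCartierIdeal (IX.comap t))
    (ht : ModPair.IsAdmBlowup (IX.comap t) IX t) :
    ∃ (k : I) (Zk : Scheme.{u}) (fk : Zk ⟶ D.obj k) (_ : IsProper fk) (Zl : Scheme.{u}) (g : Zl ⟶ Zk)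
      (b : Zl ⟶ c.pt), IsPullback g b fk (c.π.app k) ∧ IsIso (fk ∣_ ModPair.interior (J k)) ∧
      CompactSpace Zk ∧ QuasiSeparatedSpace Zk ∧ QuasiSeparatedSpace Zl ∧
      ∃ e : T ≅ cl b IX, e.hom ≫ clπ b IX = t := by
  obtain ⟨-, htp, hti⟩ := ht
  haveI := htp
  haveI : CompactSpace T := QuasiCompact.compactSpace_of_compactSpace t
  haveI : QuasiSeparatedSpace T := quasiSeparatedSpace_of_quasiSeparated t
  obtain ⟨A, iA1, iA2, E, cE, -, eT, JE, h1, -, h3, -, -, -, -, -, h8, h9⟩ :=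
    Groth.Agent.S18759.result (IX.comap t) IX hT hX t (le_of_eq rfl)
  letI := iA1
  haveI := iA2
  obtain ⟨a⟩ := IsCofiltered.nonempty (C := A)
  haveI : IsProper (E.obj a).hom := h8 htp a
  haveI : LocallyOfFinitePresentation (E.obj a).hom := (h1 a).1
  have hiso : IsIso ((E.obj a).hom ∣_ ModPair.interior IX) := h9 rfl hti a
  obtain ⟨k, Zk, fk, g, hfk, hfki, hsq⟩ :=
    exists_model D hc J hJ hmin hIX (Z := (E.obj a).left) (E.obj a).hom hiso
  haveI := h3 a
  let κ : T ⟶ (E.obj a).left := eT.inv.left ≫ (cE.π.app a).left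
  haveI : IsIso eT.inv.left := inferInstanceAs (IsIso ((Over.forget c.pt).map eT.inv))
  haveI : IsClosedImmersion κ := inferInstanceAs (IsClosedImmersion (eT.inv.left ≫ (cE.π.app a).left))
  have hκ : κ ≫ (E.obj a).hom = t := by
    show (eT.inv.left ≫ (cE.π.app a).left) ≫ _ = _
    rw [Category.assoc, Over.w]
    exact Over.w eT.inv
  obtain ⟨e, he⟩ := exists_iso_cl (E.obj a).hom IX hiso κ (hκ.symm ▸ hT) (by rw [hκ]; exact hti)
  haveI := hfk
  exact ⟨k, Zk, fk, hfk, (E.obj a).left, g, (E.obj a).hom, hsq, hfki,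
    QuasiCompact.compactSpace_of_compactSpace fk, quasiSeparatedSpace_of_quasiSeparated fk,
    quasiSeparatedSpace_of_quasiSeparated (E.obj a).hom, e, by
      show e.hom ≫ clι _ _ ≫ _ = _
      rw [← Category.assoc, he, hκ]⟩

/-- Descent of morphisms, for a system presented by structure morphisms. -/
theorem scheme_descent {S₀ : Scheme.{u}} [CompactSpace S₀] [QuasiSeparatedSpace S₀] {K : Type u} [SmallCategory K]
    [IsCofiltered K] (F : K ⥤ Scheme.{u}) (p : ∀ o, F.obj o ⟶ S₀)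
    (hp : ∀ {o o' : K} (a : o ⟶ o'), F.map a ≫ p o' = p o) (cF : Cone F) (hcF : IsLimit cF)
    (haff : ∀ (o o' : K) (a : o ⟶ o'), IsAffineHom (F.map a))
    (hcp : ∀ o, CompactSpace (F.obj o)) (hqs : ∀ o, QuasiSeparatedSpace (F.obj o))
    (J : ∀ o, (F.obj o).IdealSheafData) (hJ : ∀ o, BlowUp.IsEffCartierIdeal (J o))
    (hmin : ∀ (o o' : K) (a : o ⟶ o'), J o = (J o').comap (F.map a))
    (IX : cF.pt.IdealSheafData) (hIX : ∀ o, IX = (J o).comap (cF.π.app o))
    {Y₀ : Scheme.{u}} [CompactSpace Y₀] [QuasiSeparatedSpace Y₀] (f : Y₀ ⟶ S₀) [LocallyOfFiniteType f]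
    (IY : Y₀.IdealSheafData) (hY : BlowUp.IsEffCartierIdeal IY)
    (h : (∀ (o o' : K) (a : o ⟶ o'), IsSchemeTheoreticallyDominant (F.map a)) ∨ LocallyOfFinitePresentation f)
    (q : cF.pt ⟶ S₀) (hq : ∀ o, cF.π.app o ≫ p o = q)
    (φ : cF.pt ⟶ Y₀) (hφ : φ ≫ f = q) (hamb : ModPair.IsAmbient IX IY φ) :
    ∃ (o : K) (φo : F.obj o ⟶ Y₀), φo ≫ f = p o ∧ ModPair.IsAmbient (J o) IY φo ∧ cF.π.app o ≫ φo = φ := by
  let E : K ⥤ Over S₀ :=
    { obj := fun o => Over.mk (p o)
      map := fun a => Over.homMk (F.map a) (hp a)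
      map_id := fun o => Over.OverMorphism.ext (F.map_id o)
      map_comp := fun a a' => Over.OverMorphism.ext (F.map_comp a a') }
  let cE : Cone E :=
    { pt := Over.mk q
      π :=
        { app := fun o => Over.homMk (cF.π.app o) (hq o)
          naturality := fun o o' a => Over.OverMorphism.ext (cF.π.naturality a) } }
  haveI := IsCofiltered.isConnected K
  have hcE : IsLimit cE := isLimitOfReflects (Over.forget S₀)
    (show IsLimit ((Over.forget S₀).mapCone cE) from hcF.ofIsoLimit (Cone.ext (Iso.refl _) fun o => by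
      simp [cE]))
  haveI : ∀ (o o' : K) (a : o ⟶ o'), IsAffineHom (E.map a).left := fun o o' a => haff o o' a
  haveI : ∀ o, CompactSpace (E.obj o).left := fun o => hcp o
  haveI : ∀ o, QuasiSeparatedSpace (E.obj o).left := fun o => hqs o
  haveI : CompactSpace (Over.mk f).left := inferInstanceAs (CompactSpace Y₀)
  haveI : QuasiSeparatedSpace (Over.mk f).left := inferInstanceAs (QuasiSeparatedSpace Y₀)
  haveI : LocallyOfFiniteType (Over.mk f).hom := inferInstanceAs (LocallyOfFiniteType f)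
  obtain ⟨o, φo, hφo, hπφ⟩ := Groth.Agent.S18745.result E cE hcE J hJ hmin IX hIX (Over.mk f) IY hY h
    (Over.homMk φ hφ) hamb
  exact ⟨o, φo.left, Over.w φo, hφo, congrArg (fun q => q.left) hπφ⟩

variable {S : ModPair.Pair.{u}} {I : Type u} [SmallCategory I] [IsCofiltered I] (D : I ⥤ Over S)

/-- The total spaces of a system of modulus pairs. -/
abbrev totalSys : I ⥤ Scheme.{u} := D ⋙ Over.forget S ⋙ ModPair.Pair.forget

/-- The moduli of a system of modulus pairs. -/
abbrev modSys (i : I) : ((totalSys D).obj i).IdealSheafData := (D.obj i).left.mod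

variable [∀ (i j : I) (t : i ⟶ j), IsAffineHom (D.map t).left.hom]

instance totalSys_isAffineHom {i j : I} (t : i ⟶ j) : IsAffineHom ((totalSys D).map t) :=
  inferInstanceAs (IsAffineHom (D.map t).left.hom)

variable (hmin : ∀ (i j : I) (t : i ⟶ j),
      ModPair.IsMinimal (D.obj i).left.mod (D.obj j).left.mod (D.map t).left.hom)

include hmin in
/-- A limit of modulus pairs is a limit of the total spaces and carries the pulled back modulus. -/
theorem limit_data {c : Cone D} (hc : IsLimit c) :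
    Nonempty (IsLimit ((Over.forget S ⋙ ModPair.Pair.forget).mapCone c)) ∧
      ∀ i, c.pt.left.mod = (D.obj i).left.mod.comap (c.π.app i).left.hom := by
  obtain ⟨i₀⟩ := IsCofiltered.nonempty (C := I)
  haveI : ∀ (i j : I) (t : i ⟶ j), IsAffineHom ((totalSys D).map t) := fun _ _ t => totalSys_isAffineHom D t
  obtain ⟨c₀, hc₀, -⟩ := Groth.Agent.S2151.result (totalSys D)
  let IX₀ : c₀.pt.IdealSheafData := (modSys D i₀).comap (c₀.π.app i₀)
  have hind : ∀ i, IX₀ = (modSys D i).comap (c₀.π.app i) := fun i => by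
    have key : ∀ {a b : I} (t : a ⟶ b),
        (modSys D b).comap (c₀.π.app b) = (modSys D a).comap (c₀.π.app a) := fun {a b} t => by
      rw [← c₀.w t, Scheme.IdealSheafData.comap_comp]
      exact congrArg (fun K => Scheme.IdealSheafData.comap K (c₀.π.app a)) (hmin a b t).symm
    exact (key (IsCofiltered.minToLeft i₀ i)).trans (key (IsCofiltered.minToRight i₀ i)).symm
  let q (i : I) : c₀.pt ⟶ S.total := c₀.π.app i ≫ (D.obj i).hom.hom
  have hqt : ∀ {a b : I} (t : a ⟶ b), q b = q a := fun {a b} t => by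
    show c₀.π.app b ≫ _ = c₀.π.app a ≫ _
    rw [← c₀.w t, Category.assoc]
    exact congrArg (fun z => c₀.π.app a ≫ z) (congrArg ModPair.Pair.Hom.hom (Over.w (D.map t)))
  have hq : ∀ i, q i = q i₀ := fun i =>
    (hqt (IsCofiltered.minToRight i₀ i)).trans (hqt (IsCofiltered.minToLeft i₀ i)).symm
  let P₀ : ModPair.Pair.{u} := ⟨c₀.pt, IX₀,
    Groth.Agent.S18744.result (totalSys D) c₀ hc₀ (modSys D) (fun i => (D.obj i).left.isEffCartier)
      (fun i j t => hmin i j t) i₀⟩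
  let p (i : I) : P₀ ⟶ (D.obj i).left := ⟨c₀.π.app i, le_of_eq (hind i)⟩
  let c₁ : Cone D :=
    { pt := Over.mk (p i₀ ≫ (D.obj i₀).hom)
      π :=
        { app := fun i => Over.homMk (p i) (ModPair.Pair.Hom.ext (hq i))
          naturality := fun a b t => by
            refine Over.OverMorphism.ext (ModPair.Pair.Hom.ext ?_)
            show 𝟙 _ ≫ c₀.π.app b = c₀.π.app a ≫ (totalSys D).map t
            rw [Category.id_comp, c₀.w] } }
  let cs : Cone (totalSys D) := (Over.forget S ⋙ ModPair.Pair.forget).mapCone c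
  let m : c.pt.left.total ⟶ c₀.pt := hc₀.lift cs
  have hm : ∀ i, m ≫ c₀.π.app i = (c.π.app i).left.hom := fun i => hc₀.fac cs i
  let M : c.pt.left ⟶ P₀ := ⟨m, by
    show c.pt.left.mod ≤ ((modSys D i₀).comap (c₀.π.app i₀)).comap m
    rw [← Scheme.IdealSheafData.comap_comp, hm i₀]
    exact (c.π.app i₀).left.cond⟩
  let M' : c.pt ⟶ c₁.pt := Over.homMk M (ModPair.Pair.Hom.ext (by
    show m ≫ c₀.π.app i₀ ≫ (D.obj i₀).hom.hom = _
    rw [reassoc_of% (hm i₀)]
    exact congrArg ModPair.Pair.Hom.hom (Over.w (c.π.app i₀))))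
  let l : c₁.pt ⟶ c.pt := hc.lift c₁
  have h1 : M' ≫ l = 𝟙 _ := hc.hom_ext fun i => by
    rw [Category.assoc, hc.fac, Category.id_comp]
    exact Over.OverMorphism.ext (ModPair.Pair.Hom.ext (hm i))
  have h1' : m ≫ l.left.hom = 𝟙 _ := congrArg (fun z => z.left.hom) h1
  have h2' : l.left.hom ≫ m = 𝟙 c₀.pt := hc₀.hom_ext fun i => by
    rw [Category.assoc, hm]
    refine Eq.trans ?_ (Category.id_comp _).symm
    exact congrArg (fun z => z.left.hom) (hc.fac c₁ i)
  let e : c₀.pt ≅ c.pt.left.total := ⟨l.left.hom, m, h2', h1'⟩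
  refine ⟨⟨hc₀.ofIsoLimit (Cone.ext e fun i => ?_)⟩, fun i => ?_⟩
  · show c₀.π.app i = l.left.hom ≫ (c.π.app i).left.hom
    rw [← hm i, ← Category.assoc, h2']
    exact (Category.id_comp _).symm
  · refine le_antisymm (c.π.app i).left.cond ?_
    rw [← hm i, Scheme.IdealSheafData.comap_comp]
    have hl : IX₀ ≤ c.pt.left.mod.comap l.left.hom := l.left.cond
    have : IX₀.comap m ≤ (c.pt.left.mod.comap l.left.hom).comap m := Scheme.IdealSheafData.comap_mono m hl
    have e1 : (c.pt.left.mod.comap l.left.hom).comap m = c.pt.left.mod := by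
      rw [← Scheme.IdealSheafData.comap_comp, h1', Scheme.IdealSheafData.comap_id]
    rw [e1, hind i] at this
    exact this

variable [∀ i, CompactSpace (D.obj i).left.total] [∀ i, QuasiSeparatedSpace (D.obj i).left.total]

instance totalSys_compactSpace (i : I) : CompactSpace ((totalSys D).obj i) :=
  inferInstanceAs (CompactSpace (D.obj i).left.total)

instance totalSys_quasiSeparatedSpace (i : I) : QuasiSeparatedSpace ((totalSys D).obj i) :=
  inferInstanceAs (QuasiSeparatedSpace (D.obj i).left.total)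

include hmin in
/-- Descent along a model of an admissible blow-up of the limit. -/
theorem descent_of_model [CompactSpace S.total] [QuasiSeparatedSpace S.total]
    (c : Cone D) (hIX : ∀ i, c.pt.left.mod = (D.obj i).left.mod.comap (c.π.app i).left.hom)
    (Y : Over S) [CompactSpace Y.left.total] [QuasiSeparatedSpace Y.left.total]
    [LocallyOfFiniteType Y.hom.hom]
    {K : Type u} [SmallCategory K] [IsCofiltered K] (pr : K ⥤ I) (F : K ⥤ Scheme.{u})
    (m : ∀ o, F.obj o ⟶ (D.obj (pr.obj o)).left.total)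
    (hm : ∀ {o p : K} (a : o ⟶ p), F.map a ≫ m p = m o ≫ (D.map (pr.map a)).left.hom)
    (hadm : ∀ o, BlowUp.IsEffCartierIdeal ((D.obj (pr.obj o)).left.mod.comap (m o)) ∧
      ModPair.IsAdmBlowup ((D.obj (pr.obj o)).left.mod.comap (m o)) (D.obj (pr.obj o)).left.mod (m o))
    (haff : ∀ (o p : K) (a : o ⟶ p), IsAffineHom (F.map a))
    (hcp : ∀ o, CompactSpace (F.obj o)) (hqs : ∀ o, QuasiSeparatedSpace (F.obj o))
    (cF : Cone F) (hcF : IsLimit cF)
    (h : (∀ (o p : K) (a : o ⟶ p), IsSchemeTheoreticallyDominant (F.map a)) ∨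
      LocallyOfFinitePresentation Y.hom.hom)
    {Z : ModPair.Pair.{u}} (s : Z ⟶ c.pt.left) (hs : (ModPair.Pair.admBlowup.{u}) s) (g : Z ⟶ Y.left)
    (hsw : g.hom ≫ Y.hom.hom = s.hom ≫ c.pt.hom.hom)
    (e : Z.total ≅ cF.pt) (he : ∀ o, e.hom ≫ cF.π.app o ≫ m o = s.hom ≫ (c.π.app (pr.obj o)).left.hom)
    (φ : (ModPair.Pair.admBlowup.{u}).Q.obj c.pt.left ⟶ (ModPair.Pair.admBlowup.{u}).Q.obj Y.left)
    (hsφ : (ModPair.Pair.admBlowup.{u}).Q.map s ≫ φ = (ModPair.Pair.admBlowup.{u}).Q.map g) :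
    ∃ (i : I) (φi : (ModPair.Pair.admBlowup.{u}).Q.obj (D.obj i).left ⟶
        (ModPair.Pair.admBlowup.{u}).Q.obj Y.left),
      φi ≫ (ModPair.Pair.admBlowup.{u}).Q.map Y.hom = (ModPair.Pair.admBlowup.{u}).Q.map (D.obj i).hom ∧
        (ModPair.Pair.admBlowup.{u}).Q.map (c.π.app i).left ≫ φi = φ := by
  have hZmod : Z.mod = c.pt.left.mod.comap s.hom := hs.1
  have hIX' : ∀ o, Z.mod.comap e.inv = ((D.obj (pr.obj o)).left.mod.comap (m o)).comap (cF.π.app o) := fun o => by
    rw [← Scheme.IdealSheafData.comap_comp, hZmod, hIX (pr.obj o), ← Scheme.IdealSheafData.comap_comp,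
      ← Scheme.IdealSheafData.comap_comp]
    congr 1
    rw [Category.assoc, Iso.inv_comp_eq]
    exact (he o).symm
  obtain ⟨o, φo, hφow, hφo, hπφ⟩ := scheme_descent F (fun o => m o ≫ (D.obj (pr.obj o)).hom.hom)
    (fun {o p} a => by
      rw [← Category.assoc, hm, Category.assoc]
      exact congrArg (fun z => m o ≫ z) (congrArg ModPair.Pair.Hom.hom (Over.w (D.map (pr.map a)))))
    cF hcF haff hcp hqs (fun o => (D.obj (pr.obj o)).left.mod.comap (m o)) (fun o => (hadm o).1)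
    (fun o p a => by
      rw [← Scheme.IdealSheafData.comap_comp, hm, Scheme.IdealSheafData.comap_comp]
      exact congrArg (fun K => Scheme.IdealSheafData.comap K (m o)) (hmin _ _ (pr.map a)))
    (Z.mod.comap e.inv) hIX' Y.hom.hom Y.left.mod Y.left.isEffCartier h
    (e.inv ≫ s.hom ≫ c.pt.hom.hom) (fun o => by
      rw [Iso.eq_inv_comp, ← Category.assoc, ← Category.assoc, Category.assoc e.hom, he, Category.assoc]
      exact congrArg (fun z => s.hom ≫ z) (congrArg ModPair.Pair.Hom.hom (Over.w (c.π.app (pr.obj o)))))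
    (e.inv ≫ g.hom) (by rw [Category.assoc, hsw]) (by
      show Z.mod.comap e.inv ≤ Y.left.mod.comap (e.inv ≫ g.hom)
      rw [Scheme.IdealSheafData.comap_comp]
      exact Scheme.IdealSheafData.comap_mono _ g.cond)
  let W : MorphismProperty ModPair.Pair.{u} := ModPair.Pair.admBlowup.{u}
  let Po : ModPair.Pair.{u} := ⟨F.obj o, _, (hadm o).1⟩
  let σP : Po ⟶ (D.obj (pr.obj o)).left := ⟨m o, le_of_eq rfl⟩
  let fP : Po ⟶ Y.left := ⟨φo, hφo⟩
  let pP : Z ⟶ Po := ⟨e.hom ≫ cF.π.app o, by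
    show Z.mod ≤ ((D.obj (pr.obj o)).left.mod.comap (m o)).comap (e.hom ≫ cF.π.app o)
    rw [Scheme.IdealSheafData.comap_comp, ← hIX', ← Scheme.IdealSheafData.comap_comp, Iso.hom_inv_id,
      Scheme.IdealSheafData.comap_id]⟩
  haveI : IsIso (W.Q.map σP) := Localization.inverts W.Q W σP (hadm o).2
  haveI : IsIso (W.Q.map s) := Localization.inverts W.Q W s hs
  refine ⟨pr.obj o, inv (W.Q.map σP) ≫ W.Q.map fP, ?_, ?_⟩
  · show (inv (W.Q.map σP) ≫ W.Q.map fP) ≫ W.Q.map Y.hom = W.Q.map (D.obj (pr.obj o)).hom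
    rw [Category.assoc, IsIso.inv_comp_eq, ← Functor.map_comp, ← Functor.map_comp]
    exact congrArg W.Q.map (ModPair.Pair.Hom.ext hφow)
  · show W.Q.map (c.π.app (pr.obj o)).left ≫ inv (W.Q.map σP) ≫ W.Q.map fP = φ
    have e1 : s ≫ (c.π.app (pr.obj o)).left = pP ≫ σP := ModPair.Pair.Hom.ext (by
      show s.hom ≫ (c.π.app (pr.obj o)).left.hom = (e.hom ≫ cF.π.app o) ≫ m o
      rw [Category.assoc, he])
    have e2 : pP ≫ fP = g := ModPair.Pair.Hom.ext (by
      show (e.hom ≫ cF.π.app o) ≫ φo = g.hom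
      rw [Category.assoc, hπφ, Iso.hom_inv_id_assoc])
    rw [← cancel_epi (W.Q.map s), hsφ, ← Functor.map_comp_assoc, e1, Functor.map_comp_assoc,
      IsIso.hom_inv_id_assoc, ← Functor.map_comp, e2]

include hmin in
/-- Morphisms out of the limit descend in the localization. -/
theorem exists_descent [CompactSpace S.total] [QuasiSeparatedSpace S.total]
    (c : Cone D) (hc : IsLimit c)
    [CompactSpace c.pt.left.total] [QuasiSeparatedSpace c.pt.left.total]
    (Y : Over S) [CompactSpace Y.left.total] [QuasiSeparatedSpace Y.left.total]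
    [LocallyOfFiniteType Y.hom.hom]
    (h : (∀ (i j : I) (t : i ⟶ j), IsSchemeTheoreticallyDominant (D.map t).left.hom) ∨
      LocallyOfFinitePresentation Y.hom.hom)
    (φ : (ModPair.Pair.admBlowup.{u}).Q.obj c.pt.left ⟶ (ModPair.Pair.admBlowup.{u}).Q.obj Y.left)
    (hφ : φ ≫ (ModPair.Pair.admBlowup.{u}).Q.map Y.hom = (ModPair.Pair.admBlowup.{u}).Q.map c.pt.hom) :
    ∃ (i : I) (φi : (ModPair.Pair.admBlowup.{u}).Q.obj (D.obj i).left ⟶
        (ModPair.Pair.admBlowup.{u}).Q.obj Y.left),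
      φi ≫ (ModPair.Pair.admBlowup.{u}).Q.map Y.hom = (ModPair.Pair.admBlowup.{u}).Q.map (D.obj i).hom ∧
        (ModPair.Pair.admBlowup.{u}).Q.map (c.π.app i).left ≫ φi = φ := by
  let W : MorphismProperty ModPair.Pair.{u} := ModPair.Pair.admBlowup.{u}
  haveI : W.HasRightCalculusOfFractions := Groth.Agent.S18738.result
  obtain ⟨⟨hcs⟩, hIX⟩ := limit_data D hmin hc
  haveI : CompactSpace ((Over.forget S ⋙ ModPair.Pair.forget).mapCone c).pt :=
    inferInstanceAs (CompactSpace c.pt.left.total)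
  haveI : QuasiSeparatedSpace ((Over.forget S ⋙ ModPair.Pair.forget).mapCone c).pt :=
    inferInstanceAs (QuasiSeparatedSpace c.pt.left.total)
  obtain ⟨z, hz⟩ := Localization.exists_rightFraction W.Q W φ
  have hzs : W.Q.map z.s ≫ φ = W.Q.map z.f := by
    rw [hz]
    exact z.map_s_comp_map W.Q (Localization.inverts W.Q W)
  obtain ⟨Z, r, hr, hrw⟩ := (MorphismProperty.map_eq_iff_precomp W.Q W (z.f ≫ Y.hom) (z.s ≫ c.pt.hom)).1 (by
    rw [Functor.map_comp, Functor.map_comp, ← hzs, Category.assoc, hφ])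
  have hs : W (r ≫ z.s) := W.comp_mem r z.s hr z.hs
  have hsφ : W.Q.map (r ≫ z.s) ≫ φ = W.Q.map (r ≫ z.f) := by
    rw [Functor.map_comp, Functor.map_comp, Category.assoc, hzs]
  have hsw : (r ≫ z.f).hom ≫ Y.hom.hom = (r ≫ z.s).hom ≫ c.pt.hom.hom :=
    congrArg ModPair.Pair.Hom.hom (show (r ≫ z.f) ≫ Y.hom = (r ≫ z.s) ≫ c.pt.hom by
      rw [Category.assoc, Category.assoc, hrw])
  have hZmod : c.pt.left.mod.comap (r ≫ z.s).hom = Z.mod := hs.1.symm
  obtain ⟨k, Zk, fk, hfk, Zl, gl, b, hsq, hiso, hZkc, hZkq, hZlq, e, he⟩ :=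
    exists_model_adm (totalSys D) (modSys D) (fun i => (D.obj i).left.isEffCartier) (fun i j t => hmin i j t)
      ((Over.forget S ⋙ ModPair.Pair.forget).mapCone c) hcs c.pt.left.mod hIX c.pt.left.isEffCartier
      (T := Z.total) (r ≫ z.s).hom (by rw [hZmod]; exact Z.isEffCartier) (by rw [hZmod]; exact hs)
  haveI := hfk; haveI := hZkc; haveI := hZkq; haveI := hZlq
  have e1 := sysConeIso_σ (totalSys D) (modSys D) (fun i j t => hmin i j t) fk
    ((Over.forget S ⋙ ModPair.Pair.forget).mapCone c) c.pt.left.mod hIX hsq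
  let e2 := sysConeIso (totalSys D) (modSys D) (fun i j t => hmin i j t) fk
    ((Over.forget S ⋙ ModPair.Pair.forget).mapCone c) c.pt.left.mod hIX hsq
  refine descent_of_model D hmin c hIX Y (Over.forget k)
    (sys (totalSys D) (modSys D) (fun i j t => hmin i j t) fk)
    (fun o => σ (totalSys D) (modSys D) (fun i j t => hmin i j t) fk o)
    (fun {o p} a => map_σ (totalSys D) (modSys D) (fun i j t => hmin i j t) fk a)
    (fun o => adm_sys (totalSys D) (modSys D) (fun i j t => hmin i j t) fk hiso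
      (fun i => (D.obj i).left.isEffCartier) o)
    (fun o p a => isAffineHom_sys (totalSys D) (modSys D) (fun i j t => hmin i j t) fk a)
    (fun o => compact_sys (totalSys D) (modSys D) (fun i j t => hmin i j t) fk o)
    (fun o => qs_sys (totalSys D) (modSys D) (fun i j t => hmin i j t) fk o)
    (sysCone (totalSys D) (modSys D) (fun i j t => hmin i j t) fk
      ((Over.forget S ⋙ ModPair.Pair.forget).mapCone c) c.pt.left.mod hIX hsq)
    (isLimitSysCone (totalSys D) (modSys D) (fun i j t => hmin i j t) fk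
      (fun i => (D.obj i).left.isEffCartier) ((Over.forget S ⋙ ModPair.Pair.forget).mapCone c)
      c.pt.left.mod hIX hsq hcs)
    (h.imp (fun hd o p a => dominant_sys (totalSys D) (modSys D) (fun i j t => hmin i j t) fk hiso
      (fun i => (D.obj i).left.isEffCartier) hd a) id)
    (r ≫ z.s) hs (r ≫ z.f) hsw
    (e ≪≫ e2)
    (fun o => ?_) φ hsφ
  show (e.hom ≫ _) ≫ _ = _
  rw [Category.assoc, e1, ← Category.assoc, he]
  rfl

/-- Composites of admissible blow-ups. -/
theorem adm_trans {A B C : Scheme.{u}} {J : C.IdealSheafData} (g : A ⟶ B) (f : B ⟶ C)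
    (hg : BlowUp.IsEffCartierIdeal ((J.comap f).comap g) ∧ ModPair.IsAdmBlowup ((J.comap f).comap g) (J.comap f) g)
    (hJ : BlowUp.IsEffCartierIdeal J) (hf : BlowUp.IsEffCartierIdeal (J.comap f) ∧ ModPair.IsAdmBlowup (J.comap f) J f) :
    BlowUp.IsEffCartierIdeal (J.comap (g ≫ f)) ∧ ModPair.IsAdmBlowup (J.comap (g ≫ f)) J (g ≫ f) := by
  let PA : ModPair.Pair.{u} := ⟨A, _, hg.1⟩
  let PB : ModPair.Pair.{u} := ⟨B, _, hf.1⟩
  let PC : ModPair.Pair.{u} := ⟨C, J, hJ⟩
  let gP : PA ⟶ PB := ⟨g, le_of_eq rfl⟩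
  let fP : PB ⟶ PC := ⟨f, le_of_eq rfl⟩
  have h := Groth.Agent.S18738.admBlowup_comp (f := gP) (g := fP) hg.2 hf.2
  refine ⟨?_, rfl, h.2⟩
  rw [Scheme.IdealSheafData.comap_comp]
  exact hg.1

include hmin in
/-- Separation along a model. -/
theorem agree_of_model {i : I} (Y : Over S) [LocallyOfFiniteType Y.hom.hom]
    {T : ModPair.Pair.{u}} (s : T ⟶ (D.obj i).left) (hs : (ModPair.Pair.admBlowup.{u}) s) (a b : T ⟶ Y.left)
    (ha : a ≫ Y.hom = s ≫ (D.obj i).hom) (hb : b ≫ Y.hom = s ≫ (D.obj i).hom)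
    {K : Type u} [SmallCategory K] [IsCofiltered K] (F : K ⥤ Scheme.{u})
    (pr : K → Over i) (m : ∀ o, F.obj o ⟶ (D.obj (pr o).left).left.total)
    (μ' : ∀ o, F.obj o ⟶ T.total) (hμ : ∀ {o p : K} (t : o ⟶ p), F.map t ≫ μ' p = μ' o)
    (hμs : ∀ o, μ' o ≫ s.hom = m o ≫ (D.map (pr o).hom).left.hom)
    (hadm : ∀ o, BlowUp.IsEffCartierIdeal ((D.obj (pr o).left).left.mod.comap (m o)) ∧
      ModPair.IsAdmBlowup ((D.obj (pr o).left).left.mod.comap (m o)) (D.obj (pr o).left).left.mod (m o))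
    (haff : ∀ (o p : K) (t : o ⟶ p), IsAffineHom (F.map t))
    (hcp : ∀ o, CompactSpace (F.obj o)) (hqs : ∀ o, QuasiSeparatedSpace (F.obj o))
    (cF : Cone F) (hcF : IsLimit cF) (o₀ : K) (hab : cF.π.app o₀ ≫ μ' o₀ ≫ a.hom = cF.π.app o₀ ≫ μ' o₀ ≫ b.hom)
    (φ ψ : (ModPair.Pair.admBlowup.{u}).Q.obj (D.obj i).left ⟶ (ModPair.Pair.admBlowup.{u}).Q.obj Y.left)
    (hφ : (ModPair.Pair.admBlowup.{u}).Q.map s ≫ φ = (ModPair.Pair.admBlowup.{u}).Q.map a)
    (hψ : (ModPair.Pair.admBlowup.{u}).Q.map s ≫ ψ = (ModPair.Pair.admBlowup.{u}).Q.map b) :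
    ∃ (j : I) (t : j ⟶ i), (ModPair.Pair.admBlowup.{u}).Q.map (D.map t).left ≫ φ =
      (ModPair.Pair.admBlowup.{u}).Q.map (D.map t).left ≫ ψ := by
  haveI : ∀ {o p : K} (t : o ⟶ p), IsAffineHom (F.map t) := fun t => haff _ _ t
  haveI := hcp
  haveI := hqs
  let tt : F ⟶ (Functor.const K).obj S.total :=
    { app := fun o => μ' o ≫ s.hom ≫ (D.obj i).hom.hom
      naturality := fun o p t => by
        show F.map t ≫ μ' p ≫ _ = _ ≫ 𝟙 _
        rw [Category.comp_id, reassoc_of% (hμ t)] }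
  obtain ⟨o, t, hot⟩ := Scheme.exists_hom_comp_eq_comp_of_locallyOfFiniteType F tt Y.hom.hom cF hcF
    (μ' o₀ ≫ a.hom) (μ' o₀ ≫ b.hom)
    (by
      show μ' o₀ ≫ s.hom ≫ _ = _
      rw [Category.assoc]
      exact congrArg (fun z => μ' o₀ ≫ z) (congrArg ModPair.Pair.Hom.hom ha).symm)
    (by
      show μ' o₀ ≫ s.hom ≫ _ = _
      rw [Category.assoc]
      exact congrArg (fun z => μ' o₀ ≫ z) (congrArg ModPair.Pair.Hom.hom hb).symm)
    hab
  have hot' : μ' o ≫ a.hom = μ' o ≫ b.hom := by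
    rw [← hμ t, Category.assoc, Category.assoc]
    exact hot
  let W : MorphismProperty ModPair.Pair.{u} := ModPair.Pair.admBlowup.{u}
  let P : ModPair.Pair.{u} := ⟨F.obj o, _, (hadm o).1⟩
  let τ : P ⟶ (D.obj (pr o).left).left := ⟨m o, le_of_eq rfl⟩
  let χ : P ⟶ T := ⟨μ' o, by
    show (D.obj (pr o).left).left.mod.comap (m o) ≤ T.mod.comap (μ' o)
    rw [show T.mod = (D.obj i).left.mod.comap s.hom from hs.1, ← Scheme.IdealSheafData.comap_comp, hμs o,
      Scheme.IdealSheafData.comap_comp]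
    exact le_of_eq (congrArg (fun K => Scheme.IdealSheafData.comap K (m o)) (hmin _ _ (pr o).hom))⟩
  haveI : IsIso (W.Q.map τ) := Localization.inverts W.Q W τ (hadm o).2
  refine ⟨(pr o).left, (pr o).hom, ?_⟩
  have e1 : τ ≫ (D.map (pr o).hom).left = χ ≫ s := ModPair.Pair.Hom.ext (hμs o).symm
  have e2 : χ ≫ a = χ ≫ b := ModPair.Pair.Hom.ext hot'
  show W.Q.map (D.map (pr o).hom).left ≫ φ = W.Q.map (D.map (pr o).hom).left ≫ ψ
  rw [← cancel_epi (W.Q.map τ), ← Functor.map_comp_assoc, ← Functor.map_comp_assoc, e1,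
    Functor.map_comp_assoc, Functor.map_comp_assoc, hφ, hψ, ← Functor.map_comp, ← Functor.map_comp, e2]

/-- Two morphisms of the localization over a base have a common denominator. -/
theorem common_denominator {X Y : Over S}
    (φ ψ : (ModPair.Pair.admBlowup.{u}).Q.obj X.left ⟶ (ModPair.Pair.admBlowup.{u}).Q.obj Y.left)
    (hφ : φ ≫ (ModPair.Pair.admBlowup.{u}).Q.map Y.hom = (ModPair.Pair.admBlowup.{u}).Q.map X.hom)
    (hψ : ψ ≫ (ModPair.Pair.admBlowup.{u}).Q.map Y.hom = (ModPair.Pair.admBlowup.{u}).Q.map X.hom) :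
    ∃ (T : ModPair.Pair.{u}) (s : T ⟶ X.left) (_ : (ModPair.Pair.admBlowup.{u}) s) (a b : T ⟶ Y.left),
      a ≫ Y.hom = s ≫ X.hom ∧ b ≫ Y.hom = s ≫ X.hom ∧
      (ModPair.Pair.admBlowup.{u}).Q.map s ≫ φ = (ModPair.Pair.admBlowup.{u}).Q.map a ∧
      (ModPair.Pair.admBlowup.{u}).Q.map s ≫ ψ = (ModPair.Pair.admBlowup.{u}).Q.map b := by
  let W : MorphismProperty ModPair.Pair.{u} := ModPair.Pair.admBlowup.{u}
  haveI : W.HasRightCalculusOfFractions := Groth.Agent.S18738.result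
  have key : ∀ (T : ModPair.Pair.{u}) (s : T ⟶ X.left), W s → ∀ (θ : W.Q.obj X.left ⟶ W.Q.obj Y.left),
      θ ≫ W.Q.map Y.hom = W.Q.map X.hom →
      ∃ (T' : ModPair.Pair.{u}) (r : T' ⟶ T) (a : T' ⟶ Y.left), W r ∧
        a ≫ Y.hom = (r ≫ s) ≫ X.hom ∧ W.Q.map (r ≫ s) ≫ θ = W.Q.map a := by
    intro T s hs θ hθ
    obtain ⟨z, hz⟩ := Localization.exists_rightFraction W.Q W (W.Q.map s ≫ θ)
    have hzs : W.Q.map z.s ≫ W.Q.map s ≫ θ = W.Q.map z.f := by
      rw [hz]
      exact z.map_s_comp_map W.Q (Localization.inverts W.Q W)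
    obtain ⟨T', r, hr, hrw⟩ := (MorphismProperty.map_eq_iff_precomp W.Q W (z.f ≫ Y.hom) (z.s ≫ s ≫ X.hom)).1 (by
      rw [Functor.map_comp, Functor.map_comp, Functor.map_comp, ← hzs, Category.assoc, Category.assoc, hθ])
    refine ⟨T', r ≫ z.s, r ≫ z.f, W.comp_mem r z.s hr z.hs, ?_, ?_⟩
    · rw [Category.assoc, hrw]
      simp only [Category.assoc]
    · simp only [Category.assoc, Functor.map_comp]
      rw [hzs]
  obtain ⟨T₁, r₁, a₁, hr₁, ha₁, hφ₁⟩ := key X.left (𝟙 _) (W.id_mem _) φ hφ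
  have hs₁ : W (r₁ ≫ 𝟙 _) := W.comp_mem _ _ hr₁ (W.id_mem _)
  obtain ⟨T₂, r₂, b, hr₂, hb, hψ₂⟩ := key T₁ (r₁ ≫ 𝟙 _) hs₁ ψ hψ
  refine ⟨T₂, r₂ ≫ r₁ ≫ 𝟙 _, W.comp_mem _ _ hr₂ hs₁, r₂ ≫ a₁, b, ?_, hb, ?_, hψ₂⟩
  · rw [Category.assoc, ha₁]
    simp only [Category.assoc]
  · show W.Q.map (r₂ ≫ r₁ ≫ 𝟙 _) ≫ φ = W.Q.map (r₂ ≫ a₁)
    rw [Functor.map_comp, Category.assoc, hφ₁, ← Functor.map_comp]

include hmin in
/-- Morphisms out of members which agree on the limit agree at some stage. -/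
theorem exists_agree (c : Cone D) (hc : IsLimit c)
    [CompactSpace c.pt.left.total] [QuasiSeparatedSpace c.pt.left.total]
    (Y : Over S) [LocallyOfFiniteType Y.hom.hom] (i : I)
    (φ ψ : (ModPair.Pair.admBlowup.{u}).Q.obj (D.obj i).left ⟶ (ModPair.Pair.admBlowup.{u}).Q.obj Y.left)
    (hφ : φ ≫ (ModPair.Pair.admBlowup.{u}).Q.map Y.hom = (ModPair.Pair.admBlowup.{u}).Q.map (D.obj i).hom)
    (hψ : ψ ≫ (ModPair.Pair.admBlowup.{u}).Q.map Y.hom = (ModPair.Pair.admBlowup.{u}).Q.map (D.obj i).hom)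
    (heq : (ModPair.Pair.admBlowup.{u}).Q.map (c.π.app i).left ≫ φ =
      (ModPair.Pair.admBlowup.{u}).Q.map (c.π.app i).left ≫ ψ) :
    ∃ (j : I) (t : j ⟶ i), (ModPair.Pair.admBlowup.{u}).Q.map (D.map t).left ≫ φ =
      (ModPair.Pair.admBlowup.{u}).Q.map (D.map t).left ≫ ψ := by
  let W : MorphismProperty ModPair.Pair.{u} := ModPair.Pair.admBlowup.{u}
  haveI : W.HasRightCalculusOfFractions := Groth.Agent.S18738.result
  obtain ⟨⟨hcs⟩, hIX⟩ := limit_data D hmin hc
  obtain ⟨T, s, hs, a, b, ha, hb, hsφ, hsψ⟩ := common_denominator φ ψ hφ hψ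
  haveI : IsProper s.hom := hs.2.1
  haveI : CompactSpace T.total := QuasiCompact.compactSpace_of_compactSpace s.hom
  haveI : QuasiSeparatedSpace T.total := quasiSeparatedSpace_of_quasiSeparated s.hom
  haveI : CompactSpace ((Over.forget S ⋙ ModPair.Pair.forget).mapCone c).pt :=
    inferInstanceAs (CompactSpace c.pt.left.total)
  haveI : QuasiSeparatedSpace ((Over.forget S ⋙ ModPair.Pair.forget).mapCone c).pt :=
    inferInstanceAs (QuasiSeparatedSpace c.pt.left.total)
  let Zl := pullback s.hom ((c.π.app i).left.hom)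
  let g : Zl ⟶ T.total := pullback.fst _ _
  let bb : Zl ⟶ ((Over.forget S ⋙ ModPair.Pair.forget).mapCone c).pt := pullback.snd _ _
  have hsq : IsPullback g bb s.hom (((Over.forget S ⋙ ModPair.Pair.forget).mapCone c).π.app i) :=
    IsPullback.of_hasPullback _ _
  haveI : IsProper bb := MorphismProperty.pullback_snd (P := @IsProper) s.hom _ ‹_›
  haveI : QuasiSeparatedSpace Zl := quasiSeparatedSpace_of_quasiSeparated bb
  have hbiso : IsIso (bb ∣_ ModPair.interior c.pt.left.mod) := by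
    rw [hIX i, interior_comap]
    haveI : IsIso (s.hom ∣_ ModPair.interior (D.obj i).left.mod) := hs.2.2
    exact isIso_restrict_of_isPullback hsq _
  have hadml := adm bb c.pt.left.mod c.pt.left.isEffCartier hbiso
  let X' : ModPair.Pair.{u} := ⟨cl bb c.pt.left.mod, _, hadml.1⟩
  let u' : X' ⟶ c.pt.left := ⟨clπ bb c.pt.left.mod, le_of_eq rfl⟩
  have hu : W u' := hadml.2
  let ν : X' ⟶ T := ⟨clι bb c.pt.left.mod ≫ g, by
    show c.pt.left.mod.comap (clπ bb c.pt.left.mod) ≤ T.mod.comap (clι bb c.pt.left.mod ≫ g)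
    rw [show T.mod = (D.obj i).left.mod.comap s.hom from hs.1, ← Scheme.IdealSheafData.comap_comp, Category.assoc,
      hsq.w, ← Category.assoc, Scheme.IdealSheafData.comap_comp _ _ (((Over.forget S ⋙ ModPair.Pair.forget).mapCone c).π.app i)]
    exact le_of_eq (congrArg (fun K => Scheme.IdealSheafData.comap K (clπ bb c.pt.left.mod)) (hIX i))⟩
  have hνs : ν ≫ s = u' ≫ (c.π.app i).left := ModPair.Pair.Hom.ext (by
    show (clι bb c.pt.left.mod ≫ g) ≫ s.hom = (clι bb c.pt.left.mod ≫ bb) ≫ _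
    rw [Category.assoc, hsq.w, Category.assoc]
    rfl)
  have hQ : W.Q.map (ν ≫ a) = W.Q.map (ν ≫ b) := by
    rw [Functor.map_comp, Functor.map_comp, ← hsφ, ← hsψ, ← Functor.map_comp_assoc, ← Functor.map_comp_assoc,
      hνs, Functor.map_comp_assoc, Functor.map_comp_assoc, heq]
  obtain ⟨Z, r, hr, hrw⟩ := (MorphismProperty.map_eq_iff_precomp W.Q W (ν ≫ a) (ν ≫ b)).1 hQ
  have hrw' : r.hom ≫ (clι bb c.pt.left.mod ≫ g) ≫ a.hom = r.hom ≫ (clι bb c.pt.left.mod ≫ g) ≫ b.hom :=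
    congrArg ModPair.Pair.Hom.hom hrw
  let hm' : ∀ (i j : I) (t : i ⟶ j), modSys D i = (modSys D j).comap ((totalSys D).map t) := fun i j t => hmin i j t
  have hJ1 : ∀ i, BlowUp.IsEffCartierIdeal (modSys D i) := fun i => (D.obj i).left.isEffCartier
  let cF := sysCone (totalSys D) (modSys D) hm' s.hom
    ((Over.forget S ⋙ ModPair.Pair.forget).mapCone c) c.pt.left.mod hIX hsq
  have hcF : IsLimit cF := isLimitSysCone (totalSys D) (modSys D) hm' s.hom hJ1
    ((Over.forget S ⋙ ModPair.Pair.forget).mapCone c) c.pt.left.mod hIX hsq hcs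
  haveI : ∀ {o p : Over i} (t : o ⟶ p), IsAffineHom ((sys (totalSys D) (modSys D) hm' s.hom).map t) :=
    fun t => isAffineHom_sys (totalSys D) (modSys D) hm' s.hom t
  haveI : ∀ o, CompactSpace ((sys (totalSys D) (modSys D) hm' s.hom).obj o) :=
    fun o => compact_sys (totalSys D) (modSys D) hm' s.hom o
  haveI : ∀ o, QuasiSeparatedSpace ((sys (totalSys D) (modSys D) hm' s.hom).obj o) :=
    fun o => qs_sys (totalSys D) (modSys D) hm' s.hom o
  have hadm1 := fun o => adm_sys (totalSys D) (modSys D) hm' s.hom hs.2.2 hJ1 o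
  haveI : IsProper (clπ bb c.pt.left.mod) := hu.2.1
  haveI : CompactSpace (cl bb c.pt.left.mod) := QuasiCompact.compactSpace_of_compactSpace (clπ bb c.pt.left.mod)
  haveI : QuasiSeparatedSpace (cl bb c.pt.left.mod) :=
    quasiSeparatedSpace_of_quasiSeparated (clπ bb c.pt.left.mod)
  haveI : CompactSpace cF.pt := inferInstanceAs (CompactSpace (cl bb c.pt.left.mod))
  haveI : QuasiSeparatedSpace cF.pt := inferInstanceAs (QuasiSeparatedSpace (cl bb c.pt.left.mod))
  have hIX2 : ∀ o, X'.mod = ((modSys D o.left).comap (σ (totalSys D) (modSys D) hm' s.hom o)).comap (cF.π.app o) :=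
    fun o => by
      rw [← Scheme.IdealSheafData.comap_comp, sysCone_σ, Scheme.IdealSheafData.comap_comp]
      exact congrArg (fun K => Scheme.IdealSheafData.comap K (clπ bb c.pt.left.mod)) (hIX o.left)
  have hrmod : X'.mod.comap r.hom = Z.mod := hr.1.symm
  obtain ⟨k, Zk, fk, hfk, Zl2, g2, b2, hsq2, hiso2, hZkc, hZkq, hZlq2, e, he⟩ :=
    exists_model_adm (sys (totalSys D) (modSys D) hm' s.hom)
      (fun o => (modSys D o.left).comap (σ (totalSys D) (modSys D) hm' s.hom o)) (fun o => (hadm1 o).1)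
      (fun o p t => min_sys (totalSys D) (modSys D) hm' s.hom t) cF hcF X'.mod hIX2 X'.isEffCartier
      (T := Z.total) r.hom (by rw [hrmod]; exact Z.isEffCartier) (by rw [hrmod]; exact hr)
  haveI := hfk; haveI := hZkc; haveI := hZkq; haveI := hZlq2
  let J2 := fun o : Over i => (modSys D o.left).comap (σ (totalSys D) (modSys D) hm' s.hom o)
  let hm2 : ∀ (o p : Over i) (t : o ⟶ p), J2 o = (J2 p).comap ((sys (totalSys D) (modSys D) hm' s.hom).map t) :=
    fun o p t => min_sys (totalSys D) (modSys D) hm' s.hom t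
  have hcσ2 := sysCone_σ (sys (totalSys D) (modSys D) hm' s.hom) J2 hm2 fk cF X'.mod hIX2 hsq2
  have hcμ := sysCone_μ (totalSys D) (modSys D) hm' s.hom
    ((Over.forget S ⋙ ModPair.Pair.forget).mapCone c) c.pt.left.mod hIX hsq
  refine agree_of_model D hmin Y s hs a b ha hb (sys (sys (totalSys D) (modSys D) hm' s.hom) J2 hm2 fk)
    (fun o => o.left)
    (fun o => σ (sys (totalSys D) (modSys D) hm' s.hom) J2 hm2 fk o ≫ σ (totalSys D) (modSys D) hm' s.hom o.left)
    (fun o => σ (sys (totalSys D) (modSys D) hm' s.hom) J2 hm2 fk o ≫ μ (totalSys D) (modSys D) hm' s.hom o.left)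
    (fun {o p} t => by rw [← Category.assoc, map_σ, Category.assoc, map_μ])
    (fun o => by rw [Category.assoc, μ_comp, Category.assoc]; rfl)
    (fun o => adm_trans _ _ (adm_sys (sys (totalSys D) (modSys D) hm' s.hom) J2 hm2 fk hiso2 (fun o => (hadm1 o).1) o)
      (hJ1 o.left.left) (hadm1 o.left))
    (fun o p t => isAffineHom_sys (sys (totalSys D) (modSys D) hm' s.hom) J2 hm2 fk t)
    (fun o => compact_sys (sys (totalSys D) (modSys D) hm' s.hom) J2 hm2 fk o)
    (fun o => qs_sys (sys (totalSys D) (modSys D) hm' s.hom) J2 hm2 fk o)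
    (sysCone (sys (totalSys D) (modSys D) hm' s.hom) J2 hm2 fk cF X'.mod hIX2 hsq2)
    (isLimitSysCone (sys (totalSys D) (modSys D) hm' s.hom) J2 hm2 fk (fun o => (hadm1 o).1) cF X'.mod hIX2 hsq2 hcF)
    (Over.mk (𝟙 k)) ?_ φ ψ hsφ hsψ
  have key := (Category.assoc _ _ _).symm.trans ((congrArg (fun z => z ≫ μ (totalSys D) (modSys D) hm' s.hom k)
    (hcσ2 (Over.mk (𝟙 k)))).trans ((Category.assoc _ _ _).trans
      (congrArg (fun z => clπ b2 X'.mod ≫ z) (hcμ k))))
  refine ((Category.assoc _ _ _).symm.trans (congrArg (fun z => z ≫ a.hom) key)).trans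
    (Eq.trans ?_ ((Category.assoc _ _ _).symm.trans (congrArg (fun z => z ≫ b.hom) key)).symm)
  let ω := clι bb c.pt.left.mod ≫ g
  have he' : ∀ (q : cl bb c.pt.left.mod ⟶ Y.left.total), e.hom ≫ (clπ b2 X'.mod ≫ q) = r.hom ≫ q := fun q =>
    (Category.assoc _ _ _).symm.trans (congrArg (fun z => z ≫ q) he)
  exact (cancel_epi e.hom).1 ((congrArg (fun z => e.hom ≫ z) (Category.assoc (clπ b2 X'.mod) ω a.hom)).trans
    ((he' (ω ≫ a.hom)).trans (hrw'.trans ((he' (ω ≫ b.hom)).symm.trans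
      (congrArg (fun z => e.hom ≫ z) (Category.assoc (clπ b2 X'.mod) ω b.hom).symm)))))

end Groth.Agent.ModBlowDesc2
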