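import Groth.Agent.Lib.EffCartier.Dense
import Groth.Agent.Lib.LimH13.Iso
import Groth.Agent.Lib.LimH13.DescendFP
import Groth.Prelude.Def_W4c6modpairsegaMP
import Groth.Agent.S0591
import Groth.Agent.S2074

/-!
# Descending finitely presented admissible modifications and closing up their interiors
-/

set_option autoImplicit false
set_option linter.style.haveILetI false
set_option linter.unusedSectionVars false
set_option backward.isDefEq.respectTransparency false
set_option backward.isDefEq.respectTransparency.types false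

universe u

open CategoryTheory CategoryTheory.Limits AlgebraicGeometry TopologicalSpace

noncomputable section

namespace Groth.Agent.ModBlowDesc2

/-- Restricting a cartesian square over an open of the base. -/
theorem isPullback_restrict {P X Y Z : Scheme.{u}} {a : P ⟶ X} {b : P ⟶ Y} {f : X ⟶ Z} {g : Y ⟶ Z}
    (h : IsPullback a b f g) (W : Z.Opens) :
    ∃ p, IsPullback p (b ∣_ (g ⁻¹ᵁ W)) (f ∣_ W) (g ∣_ W) := by
  have hw : ∀ x, ((b ⁻¹ᵁ (g ⁻¹ᵁ W)).ι ≫ a) x ∈ f ⁻¹ᵁ W := fun x => by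
    show f (a x.1) ∈ W
    rw [← Scheme.Hom.comp_apply, h.w]
    exact x.2
  have hr : Set.range ((b ⁻¹ᵁ (g ⁻¹ᵁ W)).ι ≫ a) ⊆ Set.range (f ⁻¹ᵁ W).ι := by
    rintro _ ⟨x, rfl⟩
    rw [Scheme.Opens.range_ι]
    exact hw x
  refine ⟨IsOpenImmersion.lift (f ⁻¹ᵁ W).ι _ hr, ?_⟩
  refine IsPullback.of_right ?_ ?_ (isPullback_morphismRestrict f W).flip
  · rw [IsOpenImmersion.lift_fac, morphismRestrict_ι]
    exact (isPullback_morphismRestrict b (g ⁻¹ᵁ W)).flip.paste_horiz h
  · rw [← cancel_mono W.ι]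
    simp only [Category.assoc, morphismRestrict_ι, morphismRestrict_ι_assoc, IsOpenImmersion.lift_fac_assoc, h.w]

theorem isIso_restrict_of_isPullback {P X Y Z : Scheme.{u}} {a : P ⟶ X} {b : P ⟶ Y} {f : X ⟶ Z} {g : Y ⟶ Z}
    (h : IsPullback a b f g) (W : Z.Opens) [IsIso (f ∣_ W)] : IsIso (b ∣_ (g ⁻¹ᵁ W)) := by
  obtain ⟨p, hp⟩ := isPullback_restrict h W
  exact MorphismProperty.of_isPullback (P := MorphismProperty.isomorphisms Scheme.{u}) hp ‹_›

section

variable {I : Type u} [SmallCategory I] [IsCofiltered I] (D : I ⥤ Scheme.{u}) {c : Cone D} (hc : IsLimit c)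
  [∀ {i j : I} (a : i ⟶ j), IsAffineHom (D.map a)]

include hc in
/-- Being an isomorphism over an open descends. -/
theorem exists_isIso_restrict {i : I} {Z Zl : Scheme.{u}} (f : Z ⟶ D.obj i) [QuasiCompact f] [QuasiSeparated f]
    [LocallyOfFinitePresentation f] (W : (D.obj i).Opens) [CompactSpace W.toScheme] {a : Zl ⟶ Z} {b : Zl ⟶ c.pt}
    (h : IsPullback a b f (c.π.app i)) (hb : IsIso (b ∣_ (c.π.app i ⁻¹ᵁ W))) :
    ∃ j : Over i, IsIso (pullback.snd f (D.map j.hom) ∣_ (D.map j.hom ⁻¹ᵁ W)) := by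
  let t : opensDiagram D i W ⟶ (Functor.const (Over i)).obj W.toScheme :=
    { app := fun j => D.map j.hom ∣_ W
      naturality := fun j k v => by
        show (D.map v.left).resLE _ _ _ ≫ (D.map k.hom ∣_ W) = (D.map j.hom ∣_ W) ≫ 𝟙 _
        rw [← cancel_mono W.ι]
        simp only [Category.assoc, Category.id_comp, morphismRestrict_ι, Scheme.Hom.resLE_comp_ι_assoc]
        rw [← D.map_comp, Over.w v] }
  haveI : ∀ j, IsAffineHom (t.app j) := fun j =>
    MorphismProperty.of_isPullback (isPullback_morphismRestrict (D.map j.hom) W).flip inferInstance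
  obtain ⟨p, hp⟩ := isPullback_restrict h W
  have hq : ∀ j, (opensCone D c i W).π.app j ≫ t.app j = (c.π.app i ∣_ W) := fun j => by
    rw [← cancel_mono W.ι]
    show ((c.π.app j.left).resLE _ _ _ ≫ (D.map j.hom ∣_ W)) ≫ W.ι = _
    simp only [Category.assoc, morphismRestrict_ι, Scheme.Hom.resLE_comp_ι_assoc, c.w]
  haveI := hb
  obtain ⟨j, hj⟩ := LimH13.exists_isIso (f := f ∣_ W) (isLimitOpensCone D c hc i W) hq hp
  refine ⟨j, ?_⟩
  obtain ⟨p', hp'⟩ := isPullback_restrict (IsPullback.of_hasPullback f (D.map j.hom)) W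
  rw [show pullback.snd f (D.map j.hom) ∣_ (D.map j.hom ⁻¹ᵁ W) =
    hp'.isoPullback.hom ≫ pullback.snd _ _ from hp'.isoPullback_hom_snd.symm]
  haveI : IsIso (pullback.snd (f ∣_ W) (D.map j.hom ∣_ W)) := hj
  infer_instance

include hc in
/-- A proper finitely presented morphism which is an isomorphism over an open descends. -/
theorem exists_model [∀ i, CompactSpace (D.obj i)] [∀ i, QuasiSeparatedSpace (D.obj i)]
    (J : ∀ i, (D.obj i).IdealSheafData) (hJ : ∀ i, BlowUp.IsEffCartierIdeal (J i))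
    (hmin : ∀ (i j : I) (t : i ⟶ j), J i = (J j).comap (D.map t))
    {IX : c.pt.IdealSheafData} (hIX : ∀ i, IX = (J i).comap (c.π.app i))
    {Z : Scheme.{u}} (b : Z ⟶ c.pt) [LocallyOfFinitePresentation b] [IsProper b]
    (hb : IsIso (b ∣_ ModPair.interior IX)) :
    ∃ (k : I) (Zk : Scheme.{u}) (fk : Zk ⟶ D.obj k) (g : Z ⟶ Zk),
      IsProper fk ∧ IsIso (fk ∣_ ModPair.interior (J k)) ∧ IsPullback g b fk (c.π.app k) := by
  haveI : ∀ (i j : I) (f : i ⟶ j), IsAffineHom (D.map f) := fun i j f => inferInstance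
  obtain ⟨i, Zi, fi, g, h1, h2, h3, hsq⟩ := Groth.Agent.S0591.result D c hc Z b
  haveI := h1; haveI := h2; haveI := h3
  haveI : CompactSpace Zi := QuasiCompact.compactSpace_of_compactSpace fi
  haveI : QuasiSeparatedSpace Zi := quasiSeparatedSpace_of_quasiSeparated fi
  obtain ⟨i₁, φ, X₁, Y₁, f₁, g₁, pY, pX, hY₁, hX₁, hf₁⟩ :=
    Groth.Agent.S2074.result D c hc i fi (𝟙 (D.obj i)) b (𝟙 c.pt) (c.π.app i) g
      (IsPullback.of_vert_isIso ⟨by simp⟩) hsq
  haveI : IsIso g₁ := MorphismProperty.of_isPullback (P := MorphismProperty.isomorphisms Scheme.{u}) hY₁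
    (inferInstanceAs (IsIso (𝟙 _)))
  have hsq₁ : IsPullback pX (f₁ ≫ g₁) fi (D.map φ) := by
    have := hX₁.paste_vert hY₁
    rwa [Category.comp_id] at this
  haveI : IsProper (pullback.snd fi (D.map φ)) := by
    rw [← hsq₁.isoPullback_inv_snd]
    infer_instance
  have hW : ∀ k : I, CompactSpace (ModPair.interior (J k)).toScheme := fun k => by
    haveI : QuasiCompact (ModPair.interior (J k)).ι := EffCartier.quasiCompact_interior (hJ k)
    exact QuasiCompact.compactSpace_of_compactSpace (ModPair.interior (J k)).ι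
  haveI := hW i
  have hint : ∀ {X₁ X₂ : Scheme.{u}} (f : X₁ ⟶ X₂) (K : X₂.IdealSheafData),
      ModPair.interior (K.comap f) = f ⁻¹ᵁ ModPair.interior K := fun f K => by
    ext x
    show x ∉ (K.comap f).support ↔ f x ∉ K.support
    rw [Scheme.IdealSheafData.support_comap]
    rfl
  rw [hIX i, hint] at hb
  obtain ⟨j, hj⟩ := exists_isIso_restrict D hc fi (ModPair.interior (J i)) hsq hb
  obtain ⟨k, a, a', haa⟩ := IsCofiltered.cospan φ j.hom
  obtain ⟨g', -, hg'⟩ := LimH13.isPullback_map_stage (a ≫ φ) hsq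
  refine ⟨k, pullback fi (D.map (a ≫ φ)), pullback.snd _ _, g', ?_, ?_, hg'⟩
  · have h : IsPullback (pullback.lift (pullback.fst _ _) (pullback.snd fi (D.map (a ≫ φ)) ≫ D.map a)
        (by rw [Category.assoc, ← D.map_comp, pullback.condition])) (pullback.snd fi (D.map (a ≫ φ)))
        (pullback.snd fi (D.map φ)) (D.map a) := by
      refine IsPullback.of_right ?_ (pullback.lift_snd _ _ _) (IsPullback.of_hasPullback fi (D.map φ))
      rw [pullback.lift_fst, ← D.map_comp]
      exact IsPullback.of_hasPullback _ _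
    exact MorphismProperty.of_isPullback (P := @IsProper) h inferInstance
  · rw [hmin k i (a ≫ φ), hint, haa, D.map_comp]
    have h : IsPullback (pullback.lift (pullback.fst _ _) (pullback.snd fi (D.map a' ≫ D.map j.hom) ≫ D.map a')
        (by rw [Category.assoc, pullback.condition])) (pullback.snd fi (D.map a' ≫ D.map j.hom))
        (pullback.snd fi (D.map j.hom)) (D.map a') := by
      refine IsPullback.of_right ?_ (pullback.lift_snd _ _ _) (IsPullback.of_hasPullback fi (D.map j.hom))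
      rw [pullback.lift_fst]
      exact IsPullback.of_hasPullback _ _
    haveI := hj
    exact isIso_restrict_of_isPullback h (D.map j.hom ⁻¹ᵁ ModPair.interior (J i))

end

/-- Closing up the interior of a modification, and of its base change. -/
theorem exists_closure {S Xp Y Z Zl : Scheme.{u}} (π : Xp ⟶ S) (J : S.IdealSheafData)
    (hJ : BlowUp.IsEffCartierIdeal J) (IX : Xp.IdealSheafData) (hIX : IX = J.comap π) (fk : Z ⟶ S) [IsProper fk]
    (hiso : IsIso (fk ∣_ ModPair.interior J)) {g : Zl ⟶ Z} {b : Zl ⟶ Xp} (hsq : IsPullback g b fk π)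
    (s : Y ⟶ Xp) (κ : Y ⟶ Zl) [IsClosedImmersion κ] (hκ : κ ≫ b = s)
    (hY : BlowUp.IsEffCartierIdeal (IX.comap s)) (hs : IsIso (s ∣_ ModPair.interior IX)) :
    ∃ (Yi : Scheme.{u}) (IYi : Yi.IdealSheafData) (si : Yi ⟶ S),
      BlowUp.IsEffCartierIdeal IYi ∧ ModPair.IsAdmBlowup IYi J si ∧
        ∃ e : Y ≅ ModPair.mprod π si IX IYi, e.hom ≫ ModPair.mprodι π si IX IYi ≫ pullback.fst π si = s := by
  let W := ModPair.interior J
  let W' : Z.Opens := fk ⁻¹ᵁ W
  haveI : QuasiCompact W'.ι := EffCartier.quasiCompact_preimage_interior hJ fk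
  let si : W'.ι.image ⟶ S := W'.ι.imageι ≫ fk
  have hsec : IsIso (W'.ι.imageι ∣_ W') := by
    have hr : Set.range W'.ι.toImage ⊆ Set.range (W'.ι.imageι ⁻¹ᵁ W').ι := by
      rintro _ ⟨x, rfl⟩
      rw [Scheme.Opens.range_ι]
      show W'.ι.imageι (W'.ι.toImage x) ∈ W'
      rw [← Scheme.Hom.comp_apply, W'.ι.toImage_imageι]
      exact x.2
    haveI : IsSplitEpi (W'.ι.imageι ∣_ W') := ⟨⟨IsOpenImmersion.lift _ _ hr, by
      rw [← cancel_mono W'.ι, Category.assoc, morphismRestrict_ι, IsOpenImmersion.lift_fac_assoc,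
        W'.ι.toImage_imageι, Category.id_comp]⟩⟩
    exact isIso_of_mono_of_isSplitEpi _
  have hsiW : IsIso (si ∣_ W) := by
    haveI := hiso
    rw [morphismRestrict_comp]
    haveI : IsIso (W'.ι.imageι ∣_ (fk ⁻¹ᵁ W)) := hsec
    infer_instance
  haveI : IsSchemeTheoreticallyDominant (si ⁻¹ᵁ EffCartier.cmpl J).ι :=
    EffCartier.dominant_preimage_imageι W'.ι W' (fun x => x.2)
  refine ⟨_, J.comap si, si, EffCartier.comap_of_dominant hJ si,
    ⟨rfl, inferInstanceAs (IsProper (W'.ι.imageι ≫ fk)), hsiW⟩, ?_⟩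
  have hint : ∀ {X₁ X₂ : Scheme.{u}} (f : X₁ ⟶ X₂) (K : X₂.IdealSheafData),
      ModPair.interior (K.comap f) = f ⁻¹ᵁ ModPair.interior K := fun f K => by
    ext x
    show x ∉ (K.comap f).support ↔ f x ∉ K.support
    rw [Scheme.IdealSheafData.support_comap]
    rfl
  -- the interior of `Y`
  let V : Y.Opens := s ⁻¹ᵁ ModPair.interior IX
  haveI hVd : IsSchemeTheoreticallyDominant V.ι := by
    show IsSchemeTheoreticallyDominant (s ⁻¹ᵁ ModPair.interior IX).ι
    rw [← hint s IX]
    exact EffCartier.dominant_cmpl hY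
  have hker : ∀ {T : Scheme.{u}} (v : Y ⟶ T), (V.ι ≫ v).ker = v.ker := fun v => by
    rw [Scheme.Hom.ker_comp, Scheme.Hom.ker_eq_bot, Scheme.IdealSheafData.map_bot]
  have hw : s ≫ π = (κ ≫ g) ≫ fk := by
    rw [← hκ, Category.assoc, Category.assoc, hsq.w]
  have hV : ∀ x : V, (κ ≫ g) x.1 ∈ W' := fun x => by
    show fk ((κ ≫ g) x.1) ∈ W
    rw [← Scheme.Hom.comp_apply, ← hw, Scheme.Hom.comp_apply]
    have := x.2
    show π (s x.1) ∈ W
    rw [← Scheme.Hom.mem_preimage, ← hint, ← hIX]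
    exact this
  have hle : W'.ι.imageι.ker ≤ (κ ≫ g).ker := by
    rw [Scheme.IdealSheafData.ker_subschemeι, ← hker]
    have hr : Set.range (V.ι ≫ κ ≫ g) ⊆ Set.range W'.ι := by
      rintro _ ⟨x, rfl⟩
      rw [Scheme.Opens.range_ι]
      exact hV x
    rw [← IsOpenImmersion.lift_fac W'.ι _ hr]
    exact Scheme.Hom.le_ker_comp _ _
  let h : Y ⟶ W'.ι.image := IsClosedImmersion.lift W'.ι.imageι (κ ≫ g) hle
  let k : Y ⟶ pullback π si := pullback.lift s h (by rw [IsClosedImmersion.lift_fac_assoc, hw])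
  haveI : IsClosedImmersion k := by
    let ν : pullback π si ⟶ Zl := hsq.lift (pullback.snd π si ≫ W'.ι.imageι) (pullback.fst π si)
      (by rw [Category.assoc, pullback.condition])
    have hν : k ≫ ν = κ := by
      refine hsq.hom_ext ?_ ?_
      · rw [Category.assoc, hsq.lift_fst, pullback.lift_snd_assoc, IsClosedImmersion.lift_fac]
      · rw [Category.assoc, hsq.lift_snd, pullback.lift_fst, hκ]
    haveI : IsClosedImmersion (k ≫ ν) := by rw [hν]; infer_instance
    haveI : IsSeparated ν := by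
      haveI : IsSeparated (ν ≫ b) := by
        rw [hsq.lift_snd]
        infer_instance
      exact IsSeparated.of_comp ν b
    exact IsClosedImmersion.of_comp k ν
  let P := ModPair.prodInterior π si IX (J.comap si)
  have hP : P = pullback.fst π si ⁻¹ᵁ ModPair.interior IX := by
    refine inf_eq_left.2 (le_of_eq ?_)
    rw [hint si J, hIX, hint π J, ← Scheme.Hom.comp_preimage, ← Scheme.Hom.comp_preimage, pullback.condition]
  haveI : IsIso (pullback.fst π si ∣_ ModPair.interior IX) := by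
    have hsq' : IsPullback (pullback.snd π si) (pullback.fst π si) si π := (IsPullback.of_hasPullback π si).flip
    haveI := hsiW
    have := isIso_restrict_of_isPullback hsq' W
    rwa [← hint, ← hIX] at this
  have hk : k.ker = P.ι.ker := by
    rw [← hker, hP]
    haveI : IsIso (k ∣_ (pullback.fst π si ⁻¹ᵁ ModPair.interior IX)) := by
      haveI : IsIso ((k ∣_ (pullback.fst π si ⁻¹ᵁ ModPair.interior IX)) ≫
          (pullback.fst π si ∣_ ModPair.interior IX)) := by
        rw [← morphismRestrict_comp]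
        have hq : ∀ q, q = s → IsIso (q ∣_ ModPair.interior IX) := by rintro _ rfl; exact hs
        exact hq _ (pullback.lift_fst _ _ _)
      exact IsIso.of_isIso_comp_right _ (pullback.fst π si ∣_ ModPair.interior IX)
    have hV' : V = k ⁻¹ᵁ (pullback.fst π si ⁻¹ᵁ ModPair.interior IX) := by
      rw [← Scheme.Hom.comp_preimage, pullback.lift_fst]
    rw [show (V.ι ≫ k).ker = ((k ⁻¹ᵁ (pullback.fst π si ⁻¹ᵁ ModPair.interior IX)).ι ≫ k).ker by rw [hV'],
      ← morphismRestrict_ι, Scheme.Hom.ker_comp_of_isIso]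
  have hk' : (ModPair.mprodι π si IX (J.comap si)).ker = k.ker := by
    rw [hk]
    exact Scheme.IdealSheafData.ker_subschemeι _
  haveI := IsClosedImmersion.isIso_lift (ModPair.mprodι π si IX (J.comap si)) k hk'
  refine ⟨asIso (IsClosedImmersion.lift (ModPair.mprodι π si IX (J.comap si)) k hk'.le), ?_⟩
  rw [asIso_hom, IsClosedImmersion.lift_fac_assoc, pullback.lift_fst]

end Groth.Agent.ModBlowDesc2
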