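import Groth.Agent.Lib.ModBlowDesc2.Closure
import Groth.Agent.Lib.Descend.Stage
import Groth.Agent.Lib.LimH13.ImmersionFP
import Groth.Agent.Lib.LimH13.ProperModel
import Groth.Agent.S18744

/-!
# The system of closures of interiors of a modification along a limit
-/

set_option autoImplicit false
set_option linter.style.haveILetI false
set_option linter.unusedSectionVars false
set_option backward.isDefEq.respectTransparency false
set_option backward.isDefEq.respectTransparency.types false

universe u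

open CategoryTheory CategoryTheory.Limits AlgebraicGeometry TopologicalSpace

noncomputable section

namespace Groth.Agent.ModBlowDesc2

theorem dominant_cancel {A B C : Scheme.{u}} {a : A ⟶ B} {b : B ⟶ C} {c : A ⟶ C} [IsIso b] (h : a ≫ b = c)
    (hc : IsSchemeTheoreticallyDominant c) : IsSchemeTheoreticallyDominant a := by
  haveI := hc
  rw [(IsIso.eq_comp_inv b).2 h]
  infer_instance

theorem dominant_of_square {A B S' S : Scheme.{u}} (g : A ⟶ B) (σo : A ⟶ S') (σp : B ⟶ S) (τ : S' ⟶ S)
    [QuasiCompact τ] [IsSchemeTheoreticallyDominant τ] (w : g ≫ σp = σo ≫ τ) (J' : S'.IdealSheafData)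
    (J : S.IdealSheafData) (hmin : J' = J.comap τ) (hC : BlowUp.IsEffCartierIdeal (J.comap σp))
    (hp : IsIso (σp ∣_ ModPair.interior J)) (ho : IsIso (σo ∣_ ModPair.interior J')) :
    IsSchemeTheoreticallyDominant g := by
  haveI := hp
  haveI : IsIso (σo ∣_ (τ ⁻¹ᵁ ModPair.interior J)) := by
    rw [← interior_comap, ← hmin]
    exact ho
  let W := ModPair.interior J
  haveI : IsSchemeTheoreticallyDominant (τ ∣_ W) :=
    IsSchemeTheoreticallyDominant.of_isPullback (isPullback_morphismRestrict τ W).flip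
  haveI : IsSchemeTheoreticallyDominant (σp ⁻¹ᵁ W).ι := by
    rw [← interior_comap]
    exact EffCartier.dominant_cmpl hC
  have h1 : IsSchemeTheoreticallyDominant ((g ≫ σp) ∣_ W) := by
    have gen : ∀ q, q = σo ≫ τ → IsSchemeTheoreticallyDominant (q ∣_ W) := by
      rintro _ rfl
      rw [morphismRestrict_comp]
      infer_instance
    exact gen _ w
  haveI : IsSchemeTheoreticallyDominant (g ∣_ (σp ⁻¹ᵁ W)) := by
    exact dominant_cancel (b := σp ∣_ W) (morphismRestrict_comp g σp W).symm h1
  haveI : IsSchemeTheoreticallyDominant ((g ⁻¹ᵁ (σp ⁻¹ᵁ W)).ι ≫ g) := by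
    rw [← morphismRestrict_ι]
    infer_instance
  exact EffCartier.dominant_of_comp (f := (g ⁻¹ᵁ (σp ⁻¹ᵁ W)).ι) g

variable {I : Type u} [SmallCategory I] (D : I ⥤ Scheme.{u})
  (J : ∀ i, (D.obj i).IdealSheafData) (hmin : ∀ (i j : I) (t : i ⟶ j), J i = (J j).comap (D.map t))
  {i : I} {Z : Scheme.{u}} (f : Z ⟶ D.obj i)

/-- The pulled back system. -/
abbrev pbSys : Over i ⥤ Scheme.{u} := Descend.pbDiagram (Over.forget i ⋙ D) (Descend.overT D i) f

/-- The structure morphisms of the pulled back system. -/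
abbrev pbπ (o : Over i) : (pbSys D f).obj o ⟶ D.obj o.left := pullback.snd f ((Descend.overT D i).app o)

include hmin in
theorem ker_sys_le {o p : Over i} (a : o ⟶ p) :
    (clι (pbπ D f p) (J p.left)).ker ≤ (clι (pbπ D f o) (J o.left) ≫ (pbSys D f).map a).ker :=
  ker_clι_le _ _ _ _ _ _ (Descend.pbMap_snd (Over.forget i ⋙ D) (Descend.overT D i) f a) (hmin _ _ a.left)

/-- The system of closures of interiors. -/
def sys : Over i ⥤ Scheme.{u} where
  obj o := cl (pbπ D f o) (J o.left)
  map {o p} a := IsClosedImmersion.lift (clι (pbπ D f p) (J p.left))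
    (clι (pbπ D f o) (J o.left) ≫ (pbSys D f).map a) (ker_sys_le D J hmin f a)
  map_id o := (cancel_mono (clι (pbπ D f o) (J o.left))).1 (by
    rw [IsClosedImmersion.lift_fac, CategoryTheory.Functor.map_id, Category.comp_id, Category.id_comp])
  map_comp {o p q} a b := (cancel_mono (clι (pbπ D f q) (J q.left))).1 (by
    rw [IsClosedImmersion.lift_fac, Category.assoc, IsClosedImmersion.lift_fac,
      IsClosedImmersion.lift_fac_assoc, CategoryTheory.Functor.map_comp, Category.assoc])

/-- The modifications of the members of the system. -/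
abbrev σ (o : Over i) : (sys D J hmin f).obj o ⟶ D.obj o.left := clπ (pbπ D f o) (J o.left)

theorem map_ι {o p : Over i} (a : o ⟶ p) :
    (sys D J hmin f).map a ≫ clι (pbπ D f p) (J p.left) = clι (pbπ D f o) (J o.left) ≫ (pbSys D f).map a :=
  IsClosedImmersion.lift_fac _ _ _

theorem map_σ {o p : Over i} (a : o ⟶ p) :
    (sys D J hmin f).map a ≫ σ D J hmin f p = σ D J hmin f o ≫ D.map a.left := by
  simp only [σ, clπ]
  rw [← Category.assoc, map_ι, Category.assoc,
    Descend.pbMap_snd (Over.forget i ⋙ D) (Descend.overT D i) f a, Category.assoc]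
  rfl

include hmin in
theorem min_sys {o p : Over i} (a : o ⟶ p) :
    (J o.left).comap (σ D J hmin f o) = ((J p.left).comap (σ D J hmin f p)).comap ((sys D J hmin f).map a) := by
  rw [← Scheme.IdealSheafData.comap_comp _ ((sys D J hmin f).map a), map_σ, hmin _ _ a.left,
    ← Scheme.IdealSheafData.comap_comp]

/-- The projection of the members of the system to the modification. -/
abbrev μ (o : Over i) : (sys D J hmin f).obj o ⟶ Z :=
  clι (pbπ D f o) (J o.left) ≫ pullback.fst f ((Descend.overT D i).app o)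

theorem map_μ {o p : Over i} (a : o ⟶ p) :
    (sys D J hmin f).map a ≫ μ D J hmin f p = μ D J hmin f o := by
  simp only [μ]
  rw [← Category.assoc, map_ι, Category.assoc,
    Descend.pbMap_fst (Over.forget i ⋙ D) (Descend.overT D i) f a]

theorem μ_comp (o : Over i) : μ D J hmin f o ≫ f = σ D J hmin f o ≫ D.map o.hom := by
  simp only [μ, σ, clπ]
  rw [Category.assoc, pullback.condition, Category.assoc]
  rfl

variable [∀ {i j : I} (a : i ⟶ j), IsAffineHom (D.map a)]

theorem isAffineHom_pb {o p : Over i} (a : o ⟶ p) : IsAffineHom ((pbSys D f).map a) := by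
  haveI : IsAffineHom ((Over.forget i ⋙ D).map a) := inferInstanceAs (IsAffineHom (D.map a.left))
  exact MorphismProperty.of_isPullback
    (Descend.pbMap_isPullback (Over.forget i ⋙ D) (Descend.overT D i) f a).flip ‹_›

theorem isAffineHom_sys {o p : Over i} (a : o ⟶ p) : IsAffineHom ((sys D J hmin f).map a) := by
  haveI := isAffineHom_pb D f a
  haveI : IsAffineHom ((sys D J hmin f).map a ≫ clι (pbπ D f p) (J p.left)) := by
    rw [map_ι]
    exact inferInstanceAs (IsAffineHom (clι (pbπ D f o) (J o.left) ≫ (pbSys D f).map a))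
  exact IsAffineHom.of_comp _ (clι (pbπ D f p) (J p.left))

theorem compact_sys [CompactSpace Z] (o : Over i) : CompactSpace ((sys D J hmin f).obj o) := by
  haveI : IsAffineHom ((Descend.overT D i).app o) := inferInstanceAs (IsAffineHom (D.map o.hom))
  haveI : IsAffineHom (pullback.fst f ((Descend.overT D i).app o)) :=
    MorphismProperty.pullback_fst _ _ ‹_›
  exact QuasiCompact.compactSpace_of_compactSpace
    (clι (pbπ D f o) (J o.left) ≫ pullback.fst f ((Descend.overT D i).app o))

theorem qs_sys [QuasiSeparatedSpace Z] (o : Over i) : QuasiSeparatedSpace ((sys D J hmin f).obj o) := by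
  haveI : IsAffineHom ((Descend.overT D i).app o) := inferInstanceAs (IsAffineHom (D.map o.hom))
  haveI : IsAffineHom (pullback.fst f ((Descend.overT D i).app o)) :=
    MorphismProperty.pullback_fst _ _ ‹_›
  exact quasiSeparatedSpace_of_quasiSeparated
    (clι (pbπ D f o) (J o.left) ≫ pullback.fst f ((Descend.overT D i).app o))

variable [IsProper f] (hiso : IsIso (f ∣_ ModPair.interior (J i))) (hJ : ∀ i, BlowUp.IsEffCartierIdeal (J i))

include hmin hiso hJ in
theorem adm_sys (o : Over i) :
    BlowUp.IsEffCartierIdeal ((J o.left).comap (σ D J hmin f o)) ∧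
      ModPair.IsAdmBlowup ((J o.left).comap (σ D J hmin f o)) (J o.left) (σ D J hmin f o) := by
  haveI : IsProper (pbπ D f o) := MorphismProperty.pullback_snd (P := @IsProper) f _ ‹_›
  refine adm (pbπ D f o) (J o.left) (hJ o.left) ?_
  rw [hmin o.left i o.hom, interior_comap]
  haveI := hiso
  exact isIso_restrict_of_isPullback (IsPullback.of_hasPullback f ((Descend.overT D i).app o)) _

include hmin hiso hJ in
theorem dominant_sys (hdom : ∀ (i j : I) (t : i ⟶ j), IsSchemeTheoreticallyDominant (D.map t)) {o p : Over i}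
    (a : o ⟶ p) : IsSchemeTheoreticallyDominant ((sys D J hmin f).map a) := by
  haveI := hdom _ _ a.left
  exact dominant_of_square ((sys D J hmin f).map a) (σ D J hmin f o) (σ D J hmin f p) (D.map a.left)
    (map_σ D J hmin f a) (J o.left) (J p.left) (hmin _ _ a.left) (adm_sys D J hmin f hiso hJ p).1
    (adm_sys D J hmin f hiso hJ p).2.2.2 (adm_sys D J hmin f hiso hJ o).2.2.2

section Limit

variable [IsCofiltered I] (c : Cone D) (IX : c.pt.IdealSheafData) (hIX : ∀ i, IX = (J i).comap (c.π.app i))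
  {Zl : Scheme.{u}} {g : Zl ⟶ Z} {b : Zl ⟶ c.pt} (hsq : IsPullback g b f (c.π.app i))

/-- The cone over the pulled back system. -/
abbrev pbC : Cone (pbSys D f) :=
  Descend.pbCone (Over.forget i ⋙ D) (Descend.overT D i) f (c.whisker (Over.forget i))
    (q := c.π.app i) (fun o => c.w o.hom) hsq

include hmin hIX in
theorem ker_cone_le (o : Over i) :
    (clι (pbπ D f o) (J o.left)).ker ≤ (clι b IX ≫ (pbC D f c hsq).π.app o).ker :=
  ker_clι_le _ _ _ _ _ (c.π.app o.left)
    (Descend.pbCone_snd (Over.forget i ⋙ D) (Descend.overT D i) f (c.whisker (Over.forget i))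
      (q := c.π.app i) (fun o => c.w o.hom) hsq o) (hIX o.left)

/-- The closure of the interior over the limit, as a cone. -/
def sysCone : Cone (sys D J hmin f) where
  pt := cl b IX
  π :=
    { app := fun o => IsClosedImmersion.lift (clι (pbπ D f o) (J o.left))
        (clι b IX ≫ (pbC D f c hsq).π.app o) (ker_cone_le D J hmin f c IX hIX hsq o)
      naturality := fun o p a => by
        show 𝟙 _ ≫ _ = _ ≫ _
        rw [← cancel_mono (clι (pbπ D f p) (J p.left))]
        simp only [Category.id_comp, Category.assoc, IsClosedImmersion.lift_fac, map_ι]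
        rw [IsClosedImmersion.lift_fac_assoc, Category.assoc, (pbC D f c hsq).w] }

theorem sysCone_σ (o : Over i) :
    (sysCone D J hmin f c IX hIX hsq).π.app o ≫ σ D J hmin f o = clπ b IX ≫ c.π.app o.left := by
  show IsClosedImmersion.lift _ _ (ker_cone_le D J hmin f c IX hIX hsq o) ≫ clι _ _ ≫ _ = _
  rw [IsClosedImmersion.lift_fac_assoc, Category.assoc, Category.assoc]
  exact congrArg _ (Descend.pbCone_snd (Over.forget i ⋙ D) (Descend.overT D i) f (c.whisker (Over.forget i))
      (q := c.π.app i) (fun o => c.w o.hom) hsq o)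

/-- The point of `sysCone`. -/
def sysConeIso : cl b IX ≅ (sysCone D J hmin f c IX hIX hsq).pt := Iso.refl _

theorem sysConeIso_σ (o : Over i) :
    (sysConeIso D J hmin f c IX hIX hsq).hom ≫ (sysCone D J hmin f c IX hIX hsq).π.app o ≫
      σ D J hmin f o = clπ b IX ≫ c.π.app o.left := by
  rw [sysCone_σ]
  exact Category.id_comp _

theorem sysCone_μ (o : Over i) :
    (sysCone D J hmin f c IX hIX hsq).π.app o ≫ μ D J hmin f o = clι b IX ≫ g := by
  show IsClosedImmersion.lift _ _ (ker_cone_le D J hmin f c IX hIX hsq o) ≫ clι _ _ ≫ _ = _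
  rw [IsClosedImmersion.lift_fac_assoc, Category.assoc]
  exact congrArg _ (Descend.pbCone_fst (Over.forget i ⋙ D) (Descend.overT D i) f (c.whisker (Over.forget i))
      (q := c.π.app i) (fun o => c.w o.hom) hsq o)

include hmin hIX hJ in
theorem ker_le_of_forall (hc : IsLimit c) {T : Scheme.{u}} (L : T ⟶ Zl) [QuasiCompact L]
    (h : ∀ o, ∃ s : T ⟶ (sys D J hmin f).obj o,
      s ≫ clι (pbπ D f o) (J o.left) = L ≫ (pbC D f c hsq).π.app o) :
    (clι b IX).ker ≤ L.ker := by
  let o₀ : Over i := Over.mk (𝟙 i)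
  let P := pbSys D f
  let cP := pbC D f c hsq
  let hcP : IsLimit cP := Descend.pbIsLimit (Over.forget i ⋙ D) (Descend.overT D i) f
    (c.whisker (Over.forget i)) (fun o => c.w o.hom) hsq
    ((Functor.Initial.isLimitWhiskerEquiv (Over.forget i) c).symm hc)
  haveI : ∀ {o p : Over i} (a : o ⟶ p), IsAffineHom (P.map a) := fun a => isAffineHom_pb D f a
  haveI : ∀ o, IsAffineHom (cP.π.app o) := fun o => isAffineHom_π_app P cP hcP o
  refine Scheme.IdealSheafData.le_of_iSup_eq_top
    (fun V : (P.obj o₀).affineOpens => (⟨cP.π.app o₀ ⁻¹ᵁ V.1, V.2.preimage _⟩ : Zl.affineOpens))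
    (by
      refine top_le_iff.1 fun x _ => ?_
      obtain ⟨V, hV, hxV, -⟩ := exists_isAffineOpen_mem_and_subset (x := cP.π.app o₀ x) (U := ⊤) trivial
      exact Opens.mem_iSup.2 ⟨⟨V, hV⟩, hxV⟩) ?_
  intro V z hz
  obtain ⟨l, φ, zl, hzl⟩ := LimH13.exists_stage_section P cP hcP o₀ V.1 V.2 z
  let Vl : (P.obj l).affineOpens := ⟨P.map φ ⁻¹ᵁ V.1, V.2.preimage _⟩
  have e : cP.π.app l ⁻¹ᵁ Vl.1 = cP.π.app o₀ ⁻¹ᵁ V.1 := by
    rw [← Scheme.Hom.comp_preimage, cP.w]
  let Wl : (P.obj l).Opens := pbπ D f l ⁻¹ᵁ ModPair.interior (J l.left)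
  have hWinf : b ⁻¹ᵁ ModPair.interior IX = cP.π.app l ⁻¹ᵁ Wl := by
    rw [hIX l.left, interior_comap, ← Scheme.Hom.comp_preimage, ← Scheme.Hom.comp_preimage]
    exact congrArg (fun q => q ⁻¹ᵁ ModPair.interior (J l.left))
      (Descend.pbCone_snd (Over.forget i ⋙ D) (Descend.overT D i) f (c.whisker (Over.forget i))
        (q := c.π.app i) (fun o => c.w o.hom) hsq l).symm
  haveI : QuasiCompact (b ⁻¹ᵁ ModPair.interior IX).ι := by
    rw [hIX i, interior_comap, ← Scheme.Hom.comp_preimage]
    exact EffCartier.quasiCompact_preimage_interior (hJ i) _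
  rw [ker_clι, Scheme.Hom.ker_apply, RingHom.mem_ker] at hz
  have hz' : ((b ⁻¹ᵁ ModPair.interior IX).ι ≫ cP.π.app l).app Vl.1 zl = 0 := by
    exact (LimH13.Img.app_appLE_eq_zero (b ⁻¹ᵁ ModPair.interior IX).ι (cP.π.app l) Vl.1 _ e zl).1 (hzl.symm ▸ hz)
  rw [app_eq_zero_iff_restrict _ Wl _ hWinf] at hz'
  have hcpt : IsCompact ((Vl.1 ⊓ Wl : (P.obj l).Opens) : Set (P.obj l)) := by
    haveI : QuasiCompact Wl.ι := EffCartier.quasiCompact_preimage_interior (hJ l.left) _
    have h1 := (Wl.ι.isCompact_preimage Vl.2.isCompact).image Wl.ι.continuous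
    have h2 : (Wl.ι '' (Wl.ι ⁻¹ᵁ Vl.1 : Set Wl.toScheme)) = ((Vl.1 ⊓ Wl : (P.obj l).Opens) : Set (P.obj l)) := by
      show Wl.ι '' (Wl.ι ⁻¹' (Vl.1 : Set (P.obj l))) = _
      rw [Set.image_preimage_eq_inter_range, Scheme.Opens.range_ι]
      rfl
    rw [← h2]
    exact h1
  obtain ⟨m, a, hm⟩ := exists_app_map_eq_zero_of_isLimit P cP hcP hcpt _ hz'
  let Wm : (P.obj m).Opens := pbπ D f m ⁻¹ᵁ ModPair.interior (J m.left)
  have hWm : Wm = P.map a ⁻¹ᵁ Wl := by
    rw [← Scheme.Hom.comp_preimage]
    show pbπ D f m ⁻¹ᵁ _ = _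
    rw [hmin m.left l.left a.left, interior_comap, ← Scheme.Hom.comp_preimage]
    exact congrArg (fun q => q ⁻¹ᵁ ModPair.interior (J l.left))
      (Descend.pbMap_snd (Over.forget i ⋙ D) (Descend.overT D i) f a).symm
  haveI : QuasiCompact Wm.ι := EffCartier.quasiCompact_preimage_interior (hJ m.left) _
  haveI : IsAffineHom (P.map a) := isAffineHom_pb D f a
  haveI : QuasiCompact (Wm.ι ≫ P.map a) := inferInstance
  have hm' : zl ∈ (Wm.ι ≫ P.map a).ker.ideal Vl := by
    rw [Scheme.Hom.ker_apply, RingHom.mem_ker]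
    exact (app_eq_zero_iff_restrict _ Wl _ hWm _ _).2 hm
  rw [← ker_clι_comp] at hm'
  obtain ⟨s, hs⟩ := h m
  have hsm : L ≫ cP.π.app l = s ≫ clι (pbπ D f m) (J m.left) ≫ P.map a := by
    rw [reassoc_of% hs, cP.w]
  have h3 : (L ≫ cP.π.app l).app Vl.1 zl = 0 := by
    have := Scheme.Hom.le_ker_comp s (clι (pbπ D f m) (J m.left) ≫ P.map a) Vl hm'
    rw [← hsm] at this
    exact Scheme.Hom.ideal_ker_le _ Vl this
  rw [Scheme.Hom.ker_apply, RingHom.mem_ker, ← hzl]
  exact (LimH13.Img.app_appLE_eq_zero L (cP.π.app l) Vl.1 _ e zl).2 h3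

include hJ in
/-- The closure of the interior over the limit is the limit of the closures. -/
def isLimitSysCone [QuasiSeparatedSpace Zl] (hc : IsLimit c) : IsLimit (sysCone D J hmin f c IX hIX hsq) :=
  IsLimit.ofExistsUnique fun s => by
    let cP := pbC D f c hsq
    let hcP : IsLimit cP := Descend.pbIsLimit (Over.forget i ⋙ D) (Descend.overT D i) f
      (c.whisker (Over.forget i)) (fun o => c.w o.hom) hsq
      ((Functor.Initial.isLimitWhiskerEquiv (Over.forget i) c).symm hc)
    let s' : Cone (pbSys D f) :=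
      { pt := s.pt
        π :=
          { app := fun o => s.π.app o ≫ clι (pbπ D f o) (J o.left)
            naturality := fun o p a => by
              show 𝟙 _ ≫ _ = _
              rw [Category.id_comp, Category.assoc, ← map_ι D J hmin f a, ← Category.assoc, s.w] } }
    have hv : ∀ j, ∃ v : s.pt.affineCover.X j ⟶ cl b IX,
        v ≫ clι b IX = s.pt.affineCover.f j ≫ hcP.lift s' := fun j => by
      haveI : QuasiSeparatedSpace cP.pt := ‹QuasiSeparatedSpace Zl›
      haveI : QuasiCompact (s.pt.affineCover.f j ≫ hcP.lift s') := quasiCompact_of_compactSpace _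
      refine ⟨IsClosedImmersion.lift (clι b IX) _ (ker_le_of_forall D J hmin f hJ c IX hIX hsq hc _ fun o =>
        ⟨s.pt.affineCover.f j ≫ s.π.app o, ?_⟩), IsClosedImmersion.lift_fac _ _ _⟩
      rw [Category.assoc, Category.assoc, hcP.fac]
    choose v hv using hv
    let V : s.pt ⟶ cl b IX := s.pt.affineCover.glueMorphisms v fun j j' => by
      rw [← cancel_mono (clι b IX), Category.assoc, Category.assoc, hv, hv, pullback.condition_assoc]
    have hV : V ≫ clι b IX = hcP.lift s' :=
      Scheme.Cover.hom_ext s.pt.affineCover _ _ fun j => by rw [Scheme.Cover.ι_glueMorphisms_assoc, hv]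
    have hfac : ∀ o, (sysCone D J hmin f c IX hIX hsq).π.app o ≫ clι (pbπ D f o) (J o.left) =
        clι b IX ≫ cP.π.app o := fun o => IsClosedImmersion.lift_fac _ _ _
    refine ⟨V, fun o => ?_, fun V' hV' => ?_⟩
    · rw [← cancel_mono (clι (pbπ D f o) (J o.left)), Category.assoc, hfac, reassoc_of% hV]
      exact hcP.fac s' o
    · rw [← cancel_mono (clι b IX), hV]
      refine hcP.hom_ext fun o => ?_
      rw [hcP.fac, Category.assoc, ← hfac, ← Category.assoc, hV' o]

end Limit

end Groth.Agent.ModBlowDesc2
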